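import Cfsg.Agent.H293.F23B.Num_m3
import Cfsg.Agent.H948.Ppd.NdMinus
import Cfsg.Agent.H984.SLX
import Cfsg.Agent.H740.K4.Equiv_m3
import Cfsg.Agent.H363.PSL2Spec
import Cfsg.Agent.H803.RankOneFacts
import Cfsg.Agent.Characters.Linear
import Cfsg.Agent.H742.TwoC_m3
import Cfsg.Agent.KFacts.Mult.TypeA
import Cfsg.Agent.KFacts.Mult.RGDW
import Cfsg.Agent.S0822
import Cfsg.Agent.S0380
import Cfsg.Agent.SporadicStructure.M24El
import Cfsg.Agent.S0157
import Cfsg.Agent.SporadicA.GolayFast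
import Cfsg.Agent.H293.F23B.Rows
import Cfsg.Agent.H175.Eight.J1
import Cfsg.Agent.H161.RowReeJ1
import Cfsg.Agent.H329.K4.SigCol
import Cfsg.Agent.H989.TwoCSpor
import Cfsg.Agent.H714.K4.Defs
import Cfsg.Agent.H678.DG.FiPts
import Cfsg.Agent.Characters.GaloisIrr
import Cfsg.Agent.H714.Fi22.Deg
import Cfsg.Agent.H729.FiTTRank
import Cfsg.Agent.H492.ThRat
import Cfsg.Agent.H641.Gow.Real_m3
import Cfsg.Agent.FastGrp
import Cfsg.Agent.Prune
set_option linter.all false

section
prune_inst 0x7ffefff9aea80fffffff7e3ffe99dffbf0e8efffe6dffbcb7fe0e1bfabdf7b0879616b859fe150ff0e56621e10b87b03fbfffeffe36bfc7ffffd1ff41ffbee4fe5f7b50871d48c3e1f706fff83f07fce6f3fffffffffffffffffffffffffffbeffbffbfeffff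

-- part: H967/K4/Final
section
prune_inst 0x20004000000000000000020000004000000000000000000000000008000000008000000000020802000000000040000000000000000000000000000000000000000000000000000000000000000000000000000000000000000000000000000000000
set_option linter.all false
open scoped Cfsg.Agent.FastGrp

-- part: H967/K4/NodeSL
section
/-!
# Nodes parametrised by `SL₂(E)` and models over a Witt frame (helper967, TEAM K4)

* `nodeInv_of_ppd`, `oc_of_ppd` : `OC {i}` from helper948's `Nd T X i σ`, `σ : SL(2, E) →* Y`;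
* `ppd_map` : the nodes of the group of root elements of a Witt frame and of the group modelled on it.
-/

set_option autoImplicit false

open Cfsg
open scoped MatrixGroups

namespace Cfsg.Agent.H967.K4

open CoxeterSystem Cfsg.Agent.ChevalleyStructure.CoxeterGeom Cfsg.Agent.Tits.Roots Cfsg.Agent.Tits.Core
  Cfsg.Agent.Nodes.Reps Cfsg.Agent.Nodes.BNOf Cfsg.Agent.Nodes.StabComb Cfsg.Agent.Nodes.Bruhat
  Cfsg.Agent.H53.HC Cfsg.Agent.H911.SLTwo Cfsg.Agent.Nodes.RGDLib

universe u

section nd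

variable {I W Y : Type*} [Fintype I] [DecidableEq I] [Group W] [Group Y] {M : CoxeterMatrix I}
  {cs : CoxeterSystem M W} {A : I → I → ℤ} {h : IsCartan M A} {r : ℕ} {T : Subgroup Y} {n : I → Y}
  {X : (I → ℤ) → Subgroup Y} {i : I} {E : Type*} [Field E] {σ : SL(2, E) →* Y}

theorem nodeInv_of_ppd (R : RGD cs h r T n X) (N : H948.Ppd.Nd T X i σ) : H687.FourK.NodeInv R i := by
  obtain ⟨t, ht, h1, h2⟩ := H687.FourK.exists_rp_MJ R i
  have hM : MJ cs h X {i} = X (sr i) ⊔ X (-sr i) := H619.Gow.MJ_single i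
  have hr : MJ cs h X {i} = σ.range := by rw [hM, N.range_eq R]
  refine ⟨t * n i, h1, h2, fun s hs hsM => ?_⟩
  have h3 := h1
  rw [hr] at h3
  obtain ⟨x, hx⟩ := h3
  -- `σ x` interchanges the two root groups
  have e1 : cj (σ x) (X (sr i)) = X (-sr i) := by
    rw [hx, R.conj_rp h2 (isRoot_sr cs h i), rep_simple_sr]
  have e2 : cj (σ x) (X (-sr i)) = X (sr i) := by
    rw [hx, R.conj_rp h2 (isRoot_sr cs h i).neg, map_neg, rep_simple_sr, neg_neg]
  have e3 : cj (σ (x * ww)) (X (sr i)) = X (sr i) := by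
    rw [map_mul, cj_mul, N.ww_conj, e2]
  have e4 : cj (σ (x * ww)) (X (-sr i)) = X (-sr i) := by
    rw [map_mul, cj_mul, N.ww_conj', e1]
  have h4 := N.lower_zero R e3
  have h5 := N.upper_zero R e4
  obtain ⟨c, hc⟩ : ∃ c : Eˣ, x * ww = hh c := by
    have hdet := det_eq (x * ww)
    rw [h4, h5, mul_zero, sub_zero] at hdet
    refine ⟨Units.mk ((x * ww).1 0 0) ((x * ww).1 1 1) hdet (by rw [mul_comm]; exact hdet), ?_⟩
    apply ext'
    · rw [hh00]
    · rw [hh01, h5]
    · rw [hh10, h4]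
    · rw [hh11]
      rfl
  have hx2 : x = hh c * ww⁻¹ := by rw [← hc, mul_inv_cancel_right]
  rw [hM] at hsM
  obtain ⟨d, rfl⟩ := N.inf_le R ⟨hsM, hs⟩
  have e5 : x * hh d * x⁻¹ = (hh d)⁻¹ := by
    have e6 : (ww : SL(2, E))⁻¹ * hh d * ww = hh d⁻¹ := by
      have e7 := wh d⁻¹
      rw [inv_inv] at e7
      rw [← e7]
      group
    rw [hx2]
    calc hh c * ww⁻¹ * hh d * (hh c * ww⁻¹)⁻¹ = hh c * (ww⁻¹ * hh d * ww) * (hh c)⁻¹ := by group
      _ = hh c * hh d⁻¹ * hh c⁻¹ := by rw [e6, hh_inv]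
      _ = (hh d)⁻¹ := by rw [hh_mul, hh_mul, hh_inv, mul_comm c, mul_assoc, mul_inv_cancel, mul_one]
  rw [← hx, ← map_mul, ← map_inv, ← map_mul, e5, map_inv]

theorem oc_of_ppd (R : RGD cs h 2 T n X) [Finite W] [Finite Y] [CharP E 2] (N : H948.Ppd.Nd T X i σ) :
    OC cs h X {i} := by
  refine H687.FourK.oc_node_inv R (nodeInv_of_ppd R N) fun u hu => ?_
  obtain ⟨t, rfl⟩ := (N.up u).1 hu
  rw [← map_mul, U_mul, CharTwo.add_self_eq_zero, U_zero, map_one]

end nd

section witt

open Cfsg.Agent.TitsThree.FrameCN Cfsg.Agent.TitsThree.WittFrame Cfsg.Agent.TitsThree.Siegel Cfsg.Agent.Nodes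

variable {F : Type*} [Field F] {V : Type*} [AddCommGroup V] [Module F V] {H : HForm F V} {n : ℕ}
  {Fr : Frame H (Fin n)} {K : Type*} [Group K]

/-- from the group of root elements to the model -/
theorem ppd_map (M : Model Fr K) {i : Fin n} {E : Type*} [Field E] {σ : SL(2, E) →* M.I}
    (N : H948.Ppd.Nd ((WittRGD.Tor Fr M.I).subgroupOf M.I) (fun x => (WittRoot.rg Fr x).subgroupOf M.I) i σ) :
    H948.Ppd.Nd (WittModel.T M) (WittModel.X M) i (M.φ.comp σ) where
  up y := by
    constructor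
    · rintro ⟨g, hg, rfl⟩
      obtain ⟨t, ht⟩ := (N.up g).1 hg
      exact ⟨t, by rw [MonoidHom.comp_apply, ht]⟩
    · rintro ⟨t, rfl⟩
      exact ⟨σ (U t), (N.up _).2 ⟨t, rfl⟩, rfl⟩
  lo y := by
    constructor
    · rintro ⟨g, hg, rfl⟩
      obtain ⟨t, ht⟩ := (N.lo g).1 hg
      exact ⟨t, by rw [MonoidHom.comp_apply, ht]⟩
    · rintro ⟨t, rfl⟩
      exact ⟨σ (Lo t), (N.lo _).2 ⟨t, rfl⟩, rfl⟩
  tor s := ⟨_, N.tor s, rfl⟩

end witt

end Cfsg.Agent.H967.K4
end

-- part: H967/K4/Om8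
section
/-!
# `PΩ⁻₈(q)`, `q` even (helper967, TEAM K4)

* `good5_B3` : type `B_3` with `OC` for the last node;
* `good5_om8` : `PΩ⁻₈(q)`.
-/

set_option autoImplicit false

open Cfsg

namespace Cfsg.Agent.H967.K4

open CoxeterSystem Cfsg.Agent.ChevalleyStructure.CoxeterGeom Cfsg.Agent.Tits.Roots Cfsg.Agent.Tits.Core
  Cfsg.Agent.Nodes.Reps Cfsg.Agent.Nodes.BNOf Cfsg.Agent.Nodes.Bruhat Cfsg.Agent.H601.K4

section b3

variable {W Y : Type*} [Group W] [Finite W] [Group Y] [Finite Y] {cs : CoxeterSystem (CoxeterMatrix.B 3) W}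
  {A : Fin 3 → Fin 3 → ℤ} {h : IsCartan (CoxeterMatrix.B 3) A} {T : Subgroup Y} {n : Fin 3 → Y}
  {X : (Fin 3 → ℤ) → Subgroup Y}

/-- **Type `B_3`.** -/
theorem good5_B3 (R : RGD cs h 2 T n X) (hG : GG cs h T X = ⊤) (hT : H601.OddDeg.TwoC Y)
    (hc : OC cs h X {2}) : Good5 Y := by
  have := Fintype.ofFinite W
  have h1 : CoxeterMatrix.B 3 0 1 = 3 := by
    rw [H612.Sym.B_apply, if_neg (by decide), if_neg (by decide), if_pos (by decide)]
  have h2 : CoxeterMatrix.B 3 0 2 = 2 := by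
    rw [H612.Sym.B_apply, if_neg (by decide), if_neg (by decide), if_neg (by decide)]
  have h3 : CoxeterMatrix.B 3 1 2 = 4 := by
    rw [H612.Sym.B_apply, if_neg (by decide), if_pos (by decide)]
  refine good5_of_pair R hG hT (a := 0) (b := 1) (c := 2) h1 h2 hc (rep_ne_of_len _ h ?_)
  rw [len_eq _ h h1]
  exact len_ne _ h h3

end b3

section minus

open QuadraticMap
open Cfsg.Agent.LieClassical Cfsg.Agent.LieClassical.OrthCore Cfsg.Agent.LieClassical.OrthTrans
open Cfsg.Agent.LieClassical.OrthSimple Cfsg.Agent.LieClassical.OrthFinite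
open Cfsg.Agent.LieClassical.OrthForms
open Cfsg.Agent.TitsThree.KSideO Cfsg.Agent.TitsThree.StdData
open Cfsg.Agent.Nodes Cfsg.Agent.Nodes.WittAll Cfsg.Agent.Nodes.WittU Cfsg.Agent.Nodes.WittInst
  Cfsg.Agent.TitsThree.Siegel Cfsg.Agent.TitsThree.SiegelGen
  Cfsg.Agent.TitsThree.WittFrame Cfsg.Agent.TitsThree.WBridge Cfsg.Agent.TitsThree.WittWeyl
  Cfsg.Agent.TitsThree.FrameCN

/-- **`PΩ⁻₈(q)`, `q` even.** -/
theorem good5_om8 {F : Type} [Field F] [Fintype F] [CharP F 2] {a b : F}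
    (hab : ∀ z₁ z₂ : F, z₁ ^ 2 + a * z₁ * z₂ + b * z₂ ^ 2 = 0 → z₁ = 0 ∧ z₂ = 0)
    (hT : H601.OddDeg.TwoC (Cfsg.POmega F (Cfsg.quadFormMinus 3 F a b))) :
    Good5 (Cfsg.POmega F (Cfsg.quadFormMinus 3 F a b)) := by
  have : Fact (Nat.Prime 2) := ⟨Nat.prime_two⟩
  have h2 : (2 : F) = 0 := CharTwo.two_eq_zero
  revert hT
  rw [← coe_minusForm]
  intro hT
  have hG : LieClassical.OrthTrans.Good (minusForm 3 F a b) := by
    apply good_of_finite (nondeg_minusForm 3 F a b hab)
    rw [Module.finrank_fintype_fun_eq_card, Fintype.card_sum, Fintype.card_sum, Fintype.card_fin,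
      Fintype.card_fin]
    omega
  have hp : ((embMinus 3 F a b hab).ngt ⟨(1, 0), -nf a b (1, 0), rfl⟩).c ≠ 0 := by
    change (1 : F)⁻¹ * (-nf a b (1, 0)) ≠ 0
    simp [nf]
  have hA : AmbT (toFrame (wminus 3 F a b hab)) 2 (E (minusForm 3 F a b)) :=
    ambT_O _ fun g hg hg2 hb => fixp_minus a b hab h2 (by norm_num) hG hg hg2 hb
  let MM := model (wminus 3 F a b hab) hG ⟨_, hp⟩
  have hA' : AmbT (toFrame (wminus 3 F a b hab)) 2 MM.I := hA
  have hW : Finite (CoxeterMatrix.B 3).Group := Nodes.TypeC.finite_W (CoxeterMatrix.B 3).toCoxeterSystem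
  have R := WittAll.rgdC_model MM hA' hp (CoxeterMatrix.B 3).toCoxeterSystem
  have hf : Fact (∀ r : F, r ^ 2 ≠ -b + a * r) := ⟨fun r hr => by
    have h1 := hab (-r) 1 (by rw [neg_sq, hr]; ring)
    exact one_ne_zero h1.2⟩
  obtain ⟨E, i1, σ, hE, -, N⟩ := H948.Ppd.Minus.exists_last hab hA'.rg_le (i := (2 : Fin 3)) (by decide)
  have hcE : CharP E 2 := by
    obtain ⟨k, -, hk⟩ := FiniteField.card F 2
    have hfin : Finite E := Nat.finite_of_card_ne_zero (by
      rw [hE]
      exact pow_ne_zero _ Nat.card_pos.ne')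
    refine charP_two_of_card (a := k * 2) ?_
    rw [hE, Nat.card_eq_fintype_card, hk, ← pow_mul]
  refine good5_B3 R (gg_of_g1 (WittModel.G1_eq_top MM (by norm_num) _)) hT ?_
  exact oc_of_ppd R (ppd_map _ N)

end minus

end Cfsg.Agent.H967.K4
end

-- part: H507/K4/PslTwo
section
/-!
# Five good characters of odd degree: `PSL₂(q)`, `q ≥ 8` even (helper507, S4947, S4547)

* `sigFix_of_exp_two` : if the `2`-elements of `S` have order at most two, every function is `SigFix`;
* `good5_sl2`, `good5_psl2` : `Good5` for `SL₂(F)`, `PSL₂(F)`, `F` of characteristic two, `8 ≤ |F|`.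
-/

set_option autoImplicit false

open Cfsg
open scoped ComplexConjugate

namespace Cfsg.Agent.H507.K4

open Cfsg.Agent.Characters.Core Cfsg.Agent.H984.SLTwo Cfsg.Agent.H601.K4 Cfsg.Agent.H984.EigCount

universe u v

/-- the `2`-elements are involutions -/
theorem sigFix_of_exp_two {S : Type u} [Group S] [Finite S]
    (h : ∀ g : S, (∃ j : ℕ, orderOf g = 2 ^ j) → g ^ 2 = 1) (χ : S → ℂ) : SigFix χ := by
  intro k h2 h3 g
  have hg : g ^ k = g := by
    have hpos : orderOf g ≠ 0 := (orderOf_pos g).ne'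
    obtain ⟨a, m, hm, hn⟩ := Nat.exists_eq_two_pow_mul_odd hpos
    have hm0 : m ≠ 0 := by rintro rfl; exact (by decide : ¬ Odd 0) hm
    have e1 : orderOf (g ^ m) = 2 ^ a := by
      rw [orderOf_pow, hn, Nat.gcd_eq_right (Dvd.intro_left _ rfl), Nat.mul_div_cancel _ (Nat.pos_of_ne_zero hm0)]
    have e2 : orderOf (g ^ 2 ^ a) = m := by
      rw [orderOf_pow, hn, Nat.gcd_eq_right (Dvd.intro _ rfl), Nat.mul_div_cancel_left _ (by positivity)]
    have h4 : (g ^ m) ^ k = g ^ m := by
      rw [h2 (g ^ m) ⟨a, e1⟩, pow_succ, h (g ^ m) ⟨a, e1⟩, one_mul]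
    have h5 : (g ^ 2 ^ a) ^ k = g ^ 2 ^ a := h3 _ (by rw [e2]; exact hm)
    have hcop : Nat.Coprime m (2 ^ a) := (Nat.Coprime.pow_right _ (Nat.coprime_two_right.2 hm))
    -- `g` is in the group generated by the two parts
    have h6 : (g ^ k * g⁻¹) ^ m = 1 := by
      rw [(((Commute.refl g).pow_left k).inv_right).mul_pow, ← pow_mul, mul_comm k m, pow_mul, h4, inv_pow,
        mul_inv_cancel]
    have h7 : (g ^ k * g⁻¹) ^ 2 ^ a = 1 := by
      rw [(((Commute.refl g).pow_left k).inv_right).mul_pow, ← pow_mul, mul_comm k (2 ^ a), pow_mul, h5, inv_pow,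
        mul_inv_cancel]
    have h8 : orderOf (g ^ k * g⁻¹) ∣ 1 := by
      rw [← hcop.gcd_eq_one]
      exact Nat.dvd_gcd (orderOf_dvd_of_pow_eq_one h6) (orderOf_dvd_of_pow_eq_one h7)
    have h9 := orderOf_eq_one_iff.1 (Nat.dvd_one.1 h8)
    rwa [mul_inv_eq_one] at h9
  rw [hg]

section SLTwo

variable {F : Type u} [Field F]

local notation "SL" => Matrix.SpecialLinearGroup (Fin 2) F

/-- the `2`-elements of `SL₂` in characteristic two -/
theorem sq_of_two [CharP F 2] (g : SL) (h : ∃ j : ℕ, orderOf g = 2 ^ j) : g ^ 2 = 1 := by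
  obtain ⟨j, hj⟩ := h
  have h1 : g ^ 2 ^ (j + 1) = 1 := by
    rw [pow_succ, pow_mul, ← hj, pow_orderOf_eq_one, one_pow]
  clear hj
  induction j with
  | zero => simpa using h1
  | succ j ih =>
    apply ih
    have h2 : (g ^ 2 ^ j) ^ 4 = 1 := by
      rw [← pow_mul]
      have : 2 ^ j * 4 = 2 ^ (j + 1 + 1) := by ring
      rw [this]; exact h1
    have h3 := Cfsg.Agent.TIAbelian.IsolatedPSL.sq_eq_one_of_pow_four _ h2
    rw [← pow_mul, ← pow_succ] at h3
    exact h3

variable [Fintype F] [DecidableEq F]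

theorem R_self {α : MulChar F ℂ} (h : α ≠ α⁻¹) : classInner (R α : SL → ℂ) (R α) = 1 := by
  classical
  rw [classInner_R_R, if_pos rfl, if_neg h, add_zero]

theorem R_irr {α : MulChar F ℂ} (h : α ≠ α⁻¹) : IsIrrCharacter SL (R α) :=
  Cfsg.Agent.Characters.Core.isIrr_of_classInner_self (isCharacter_R α) (R_self h)

theorem R_conj (α : MulChar F ℂ) (g : SL) : R α⁻¹ g = conj (R α g) := by
  rw [Cfsg.Agent.H984.SLTwo.R_apply, Cfsg.Agent.H984.SLTwo.R_apply, map_mul, map_sum, map_inv₀, map_sub, map_one,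
    Complex.conj_natCast]
  congr 1
  refine Finset.sum_congr rfl fun c _ => ?_
  rw [map_mul, Complex.conj_natCast, conj_mulChar]

theorem R_ne {α β : MulChar F ℂ} (h1 : α ≠ β) (h2 : α ≠ β⁻¹) (h : α ≠ α⁻¹) : (R α : SL → ℂ) ≠ R β := by
  classical
  intro hab
  have h3 := classInner_R_R α β
  rw [← hab, R_self h, if_neg h1, if_neg h2, add_zero] at h3
  exact one_ne_zero h3

theorem R_inv {α : MulChar F ℂ} (h : α ≠ α⁻¹) : (R α : SL → ℂ) = R α⁻¹ := by
  classical
  by_contra hne
  have h' : α⁻¹ ≠ α⁻¹⁻¹ := by rw [inv_inv]; exact h.symm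
  have h1 := classInner_irr_ne (R_irr h) (R_irr h') hne
  rw [classInner_R_R, if_neg h, if_pos (inv_inv α).symm, zero_add] at h1
  exact one_ne_zero h1

theorem R_real {α : MulChar F ℂ} (h : α ≠ α⁻¹) (g : SL) : (R α g).im = 0 := by
  have h1 : conj (R α g) = R α g := by
    rw [← R_conj, ← R_inv h]
  exact Complex.conj_eq_iff_im.1 h1

theorem R_one' (α : MulChar F ℂ) : R α (1 : SL) = ((Fintype.card F + 1 : ℕ) : ℂ) := by
  have h := ind_scalar (fun c => α c) (1 : SL) (by simp) (by simp) (by simp)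
  have h2 : R α (1 : SL) = _ := h
  rw [h2]
  simp

theorem good_R [CharP F 2] {α : MulChar F ℂ} (h : α ≠ α⁻¹) (hq : Even (Fintype.card F)) :
    Good (R α : SL → ℂ) := by
  have hodd : OddIrr (R α : SL → ℂ) := by
    refine ⟨R_irr h, ?_⟩
    rw [Cfsg.Agent.Blocks.Basic.charDegree_of_eq (R_one' α)]
    obtain ⟨m, hm⟩ := hq
    omega
  exact ⟨hodd, sigFix_of_exp_two sq_of_two _, InB0.of_real hodd (R_real h)⟩

theorem R_zero {t : SL} (ht : Ell (t : Matrix (Fin 2) (Fin 2) F)) (α : MulChar F ℂ) : R α t = 0 :=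
  ind_ell (fun c => α c) t ht

/-- **Five good characters of `SL₂(q)`, `q ≥ 8` even.** -/
theorem good5_sl2 [CharP F 2] (h8 : 8 ≤ Fintype.card F) : Good5 SL := by
  classical
  obtain ⟨n, -, hn⟩ := FiniteField.card F 2
  have heven : Even (Fintype.card F) := by
    rw [hn]
    exact (Nat.even_pow.2 ⟨even_two, n.ne_zero⟩)
  obtain ⟨α, hα⟩ := MulChar.exists_mulChar_orderOf F (dvd_refl (Fintype.card F - 1))
    (Complex.isPrimitiveRoot_exp (Fintype.card F - 1) (by omega))
  have hpow : ∀ m : ℕ, 0 < m → m < 7 → α ^ m ≠ 1 := by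
    intro m h0 h1 h2
    have := Nat.le_of_dvd h0 (orderOf_dvd_of_pow_eq_one h2)
    omega
  have hinv : ∀ i j : ℕ, 0 < i + j → i + j < 7 → α ^ i ≠ (α ^ j)⁻¹ := by
    intro i j h0 h1 h2
    apply hpow (i + j) h0 h1
    rw [pow_add, h2, inv_mul_cancel]
  have hne : ∀ i j : ℕ, i < j → j < 7 → α ^ i ≠ α ^ j := by
    intro i j h0 h1 h2
    apply hpow (j - i) (by omega) (by omega)
    have h3 : α ^ i * α ^ (j - i) = α ^ i * 1 := by
      rw [← pow_add, mul_one, Nat.add_sub_cancel' h0.le, h2]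
    exact mul_left_cancel h3
  obtain ⟨t, ht⟩ := exists_ell (F := F)
  have hto : Odd (orderOf t) := by
    have h1 : orderOf t ∣ Fintype.card F + 1 := by
      rw [← card_cent_ell t ht]
      have h2 : t ∈ Subgroup.centralizer ({t} : Set SL) := by
        rw [Subgroup.mem_centralizer_singleton_iff]
      have h3 := orderOf_dvd_natCard (⟨t, h2⟩ : Subgroup.centralizer ({t} : Set SL))
      rwa [← Subgroup.orderOf_coe] at h3
    exact Odd.of_dvd_nat heven.add_one h1
  have hev : Even (Nat.card SL) := by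
    rw [card_SL]
    exact heven.mul_right _
  refine H740.K4.good5_of_four hev (χ := Fin.cons (fun _ => 1) fun i : Fin 3 => R (α ^ ((i : ℕ) + 1))) (t := t)
    (z := Fin.cons 1 fun _ => 0) ?_ ?_ hto ?_ ?_
  · rw [Fin.cons_injective_iff]
    constructor
    · rintro ⟨i, hi⟩
      have h1 : R (α ^ ((i : ℕ) + 1)) (1 : SL) = 1 := congrFun hi 1
      rw [R_one'] at h1
      have h2 : ((Fintype.card F + 1 : ℕ) : ℂ) = ((1 : ℕ) : ℂ) := by rw [h1]; simp
      have h3 := Nat.cast_injective h2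
      omega
    · intro i j hij
      by_contra hne'
      have hi := i.2
      have hj := j.2
      have hij' : (i : ℕ) ≠ j := fun h => hne' (Fin.ext h)
      rcases Nat.lt_or_gt_of_ne hij' with h | h
      · exact R_ne (hne _ _ (by omega) (by omega)) (hinv _ _ (by omega) (by omega)) (hinv _ _ (by omega) (by omega)) hij
      · exact R_ne (hne _ _ (by omega) (by omega)) (hinv _ _ (by omega) (by omega)) (hinv _ _ (by omega) (by omega))
          hij.symm
  · intro i
    refine Fin.cases ?_ (fun i => ?_) i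
    · exact H740.K4.good_one'
    · rw [Fin.cons_succ]
      have hi := i.2
      exact good_R (hinv _ _ (by omega) (by omega)) heven
  · intro i
    refine Fin.cases ?_ (fun i => ?_) i
    · rw [Fin.cons_zero, Fin.cons_zero]
      simp
    · rw [Fin.cons_succ, Fin.cons_succ, Int.cast_zero]
      exact R_zero ht _
  · rw [Fin.sum_univ_succ]
    simp only [Fin.cons_zero, Fin.cons_succ, Finset.sum_const_zero, add_zero]
    exact odd_one

end SLTwo

/-- **Five good characters of `PSL₂(q)`, `q ≥ 8` even.** -/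
theorem good5_psl2 (F : Type u) [Field F] [Fintype F] [CharP F 2] (h8 : 8 ≤ Fintype.card F) :
    Good5 (Matrix.ProjectiveSpecialLinearGroup (Fin 2) F) := by
  classical
  obtain ⟨e⟩ := H803.RankOneFacts.nonempty_psl_equiv (F := F)
  exact H740.K4.good5_of_equiv e.symm (good5_sl2 h8)

end Cfsg.Agent.H507.K4
end

-- part: H507/K4/Lam
section
/-!
# Linear characters of the torus, pairwise not conjugate under the Weyl group (helper507, TEAM K4)

* `tw R w mu` : the conjugate of `mu : T →* ℂˣ` by `w`; `tw_tw`, `tw_one`, `tw_eq`;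
* `exists_lamSet` : `k * |W| + 1 < |T|` and `T` abelian: there is a `LamSet` with `k + 2` members.
-/

set_option autoImplicit false
set_option linter.unusedSectionVars false

open scoped ComplexConjugate
open Cfsg

namespace Cfsg.Agent.H507.K4.Lam

open Cfsg.Agent.Characters Cfsg.Agent.H601.K4 Cfsg.Agent.H967.K4
open CoxeterSystem Cfsg.Agent.ChevalleyStructure.CoxeterGeom Cfsg.Agent.Tits.Roots Cfsg.Agent.Tits.Core
  Cfsg.Agent.Tits.Exchange Cfsg.Agent.Nodes.Reps Cfsg.Agent.Nodes.BNOf Cfsg.Agent.Nodes.StabComb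
  Cfsg.Agent.Nodes.Bruhat

theorem oddIrr_hom {G : Type*} [Group G] (f : G →* ℂˣ) : OddIrr (fun g => (f g : ℂ)) := by
  refine ⟨Linear.isIrrCharacter_hom f, ?_⟩
  rw [charDegree, map_one]
  simp

/-- the conjugate by an element of the normalizer -/
def cT {Y : Type*} [Group Y] {T : Subgroup Y} (g : Y) (hg : ∀ t ∈ T, g⁻¹ * t * g ∈ T) : T →* T where
  toFun t := ⟨g⁻¹ * t * g, hg t t.2⟩
  map_one' := Subtype.ext (by simp)
  map_mul' s t := Subtype.ext (by
    change g⁻¹ * (s * t) * g = g⁻¹ * s * g * (g⁻¹ * t * g)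
    group)

section rgd

variable {I W Y : Type*} [Fintype I] [DecidableEq I] [Group W] [Group Y] {M : CoxeterMatrix I}
  {cs : CoxeterSystem M W} {A : I → I → ℤ} {h : IsCartan M A} {T : Subgroup Y} {n : I → Y}
  {X : (I → ℤ) → Subgroup Y}

theorem rp_mem {hN : NSys M T n} {w : W} {g : Y} (hg : Rp cs hN w g) {t : Y} (ht : t ∈ T) : g⁻¹ * t * g ∈ T := by
  have h1 := (Subgroup.mem_normalizer_iff.1 (inv_mem hg.mem_normalizer) t).1 ht
  rwa [inv_inv] at h1

/-- the conjugate of a linear character of the torus -/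
noncomputable def tw (cs : CoxeterSystem M W) (hN : NSys M T n) (w : W) (mu : T →* ℂˣ) : T →* ℂˣ :=
  mu.comp (cT (exists_rp cs hN w).choose fun _ ht => rp_mem (exists_rp cs hN w).choose_spec ht)

theorem tw_eq {hN : NSys M T n} (hab : ∀ s ∈ T, ∀ t ∈ T, s * t = t * s) {w : W} {g : Y} (hg : Rp cs hN w g)
    (mu : T →* ℂˣ) (t : T) : tw cs hN w mu t = mu ⟨g⁻¹ * t * g, rp_mem hg t.2⟩ := by
  change mu _ = mu _
  congr 1
  apply Subtype.ext
  have hk := (exists_rp cs hN w).choose_spec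
  set k := (exists_rp cs hN w).choose with hk'
  have h1 : k⁻¹ * g ∈ T := hk.unique hg
  have h2 := rp_mem hk t.2
  have h3 := hab _ h1 _ h2
  change k⁻¹ * t * k = g⁻¹ * t * g
  have h4 : g⁻¹ * t * g = (k⁻¹ * g)⁻¹ * ((k⁻¹ * t * k) * (k⁻¹ * g)) := by group
  rw [h4, ← h3, inv_mul_cancel_left]

theorem tw_one {hN : NSys M T n} (hab : ∀ s ∈ T, ∀ t ∈ T, s * t = t * s) (mu : T →* ℂˣ) :
    tw cs hN (1 : W) mu = mu := by
  ext t
  rw [tw_eq hab rp_one]
  congr 2
  exact Subtype.ext (by simp)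

theorem tw_tw {hN : NSys M T n} (hab : ∀ s ∈ T, ∀ t ∈ T, s * t = t * s) (w v : W) (mu : T →* ℂˣ) :
    tw cs hN w (tw cs hN v mu) = tw cs hN (w * v) mu := by
  obtain ⟨g, hg⟩ := exists_rp cs hN w
  obtain ⟨k, hk⟩ := exists_rp cs hN v
  ext t
  rw [tw_eq hab hg, tw_eq hab hk, tw_eq hab (hg.mul hk)]
  congr 2
  apply Subtype.ext
  change k⁻¹ * (g⁻¹ * t * g) * k = (g * k)⁻¹ * t * (g * k)
  group

theorem tw_id {hN : NSys M T n} (w : W) : tw cs hN w 1 = 1 := by
  ext t
  rfl

/-- the number of linear characters -/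
theorem card_hom [Finite T] (hab : ∀ s ∈ T, ∀ t ∈ T, s * t = t * s) : Nat.card (T →* ℂˣ) = Nat.card T := by
  let _ : CommGroup T := { (inferInstance : Group T) with mul_comm := fun s t => Subtype.ext (hab s s.2 t t.2) }
  exact CommGroup.card_monoidHom_of_hasEnoughRootsOfUnity T ℂ

theorem exists_homs [Finite W] [Finite Y] (cs : CoxeterSystem M W) (hN : NSys M T n)
    (hab : ∀ s ∈ T, ∀ t ∈ T, s * t = t * s) (k : ℕ) (hk : (k - 1) * Nat.card W + 1 < Nat.card T ∨ k = 0) :
    ∃ L : Finset (T →* ℂˣ), L.card = k + 1 ∧ 1 ∈ L ∧ ∀ lam ∈ L, ∀ mu ∈ L, lam ≠ mu → ∀ w : W, lam ≠ tw cs hN w mu := by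
  classical
  induction k with
  | zero =>
    refine ⟨{1}, rfl, Finset.mem_singleton_self _, fun lam h1 mu h2 hne => ?_⟩
    rw [Finset.mem_singleton] at h1 h2
    exact absurd (h1.trans h2.symm) hne
  | succ k ih =>
    have hk' : k * Nat.card W + 1 < Nat.card T := by
      rcases hk with h | h
      · exact h
      · omega
    obtain ⟨L, h1, h2, h3⟩ := ih (by
      rcases Nat.eq_zero_or_pos k with h | h
      · exact Or.inr h
      · left
        refine lt_of_le_of_lt ?_ hk'
        exact Nat.add_le_add_right (Nat.mul_le_mul_right _ (Nat.sub_le _ _)) 1)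
    have : Fintype W := Fintype.ofFinite W
    have hcard := card_hom (T := T) hab
    have : Finite (T →* ℂˣ) := Nat.finite_of_card_ne_zero (by rw [hcard]; exact Nat.card_pos.ne')
    have : Fintype (T →* ℂˣ) := Fintype.ofFinite _
    let O : Finset (T →* ℂˣ) := insert 1 ((Finset.univ ×ˢ L.erase 1).image fun p : W × (T →* ℂˣ) => tw cs hN p.1 p.2)
    have hO : O.card ≤ k * Nat.card W + 1 := by
      refine (Finset.card_insert_le _ _).trans (Nat.add_le_add_right (Finset.card_image_le.trans ?_) 1)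
      rw [Finset.card_product, Finset.card_erase_of_mem h2, h1, Finset.card_univ, Nat.card_eq_fintype_card,
        Nat.add_sub_cancel, mul_comm]
    obtain ⟨mu, hmu⟩ : ∃ mu, mu ∉ O := by
      by_contra hcon
      push Not at hcon
      have h4 : Fintype.card (T →* ℂˣ) ≤ O.card := by
        rw [← Finset.card_univ]
        exact Finset.card_le_card fun x _ => hcon x
      rw [← Nat.card_eq_fintype_card, hcard] at h4
      omega
    have hmu1 : mu ≠ 1 := fun h => hmu (h ▸ Finset.mem_insert_self _ _)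
    have hmu2 : ∀ lam ∈ L, ∀ w : W, mu ≠ tw cs hN w lam := by
      intro lam hl w h
      by_cases hlam : lam = 1
      · rw [hlam, tw_id] at h
        exact hmu1 h
      · exact hmu (Finset.mem_insert_of_mem (Finset.mem_image.2 ⟨(w, lam), Finset.mem_product.2
          ⟨Finset.mem_univ _, Finset.mem_erase.2 ⟨hlam, hl⟩⟩, h.symm⟩))
    have hmuL : mu ∉ L := fun h => hmu2 mu h 1 (tw_one hab mu).symm
    refine ⟨insert mu L, by rw [Finset.card_insert_of_notMem hmuL, h1], Finset.mem_insert_of_mem h2, ?_⟩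
    intro lam hlam nu hnu hne w
    rw [Finset.mem_insert] at hlam hnu
    rcases hlam with rfl | hlam <;> rcases hnu with rfl | hnu
    · exact absurd rfl hne
    · exact hmu2 nu hnu w
    · intro h
      apply hmu2 lam hlam w⁻¹
      rw [h, tw_tw hab, inv_mul_cancel, tw_one hab]
    · exact h3 lam hlam nu hnu hne w

/-- **Many characters of the torus.** -/
theorem exists_lamSet [Finite W] [Finite Y] [Fintype T] (R : RGD cs h 2 T n X)
    (hab : ∀ s ∈ T, ∀ t ∈ T, s * t = t * s) (k : ℕ) (hk : k * Nat.card W + 1 < Nat.card T) :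
    ∃ Λ : Finset (T → ℂ), LamSet R Λ ∧ Λ.card = k + 2 := by
  classical
  obtain ⟨L, h1, -, h3⟩ := exists_homs cs R.nsys hab (k + 1) (Or.inl (by rwa [Nat.add_sub_cancel]))
  let f : (T →* ℂˣ) → T → ℂ := fun lam t => (lam t : ℂ)
  have hf : Function.Injective f := by
    intro lam mu hlm
    ext t
    exact congrFun hlm t
  refine ⟨L.image f, ⟨?_, ?_⟩, by rw [Finset.card_image_of_injective _ hf, h1]⟩
  · intro lam hlam
    obtain ⟨lam, -, rfl⟩ := Finset.mem_image.1 hlam
    exact oddIrr_hom lam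
  · intro lam hlam mu hmu hne w g hg hgT
    obtain ⟨lam, hlam', rfl⟩ := Finset.mem_image.1 hlam
    obtain ⟨mu, hmu', rfl⟩ := Finset.mem_image.1 hmu
    have h4 := h3 lam hlam' mu hmu' (fun e => hne (by rw [e])) w
    have h5 : (fun t : T => ((tw cs R.nsys w mu) t : ℂ)) ≠ fun t : T => (lam t : ℂ) := fun e => h4 (hf e.symm)
    have h6 := Core.classInner_irr_ne (Linear.isIrrCharacter_hom lam) (Linear.isIrrCharacter_hom (tw cs R.nsys w mu))
      h5.symm
    rw [Core.classInner_def, mul_eq_zero] at h6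
    rcases h6 with h6 | h6
    · exact absurd h6 (inv_ne_zero Core.card_ne_zero_complex)
    · rw [← h6]
      refine Finset.sum_congr rfl fun t _ => ?_
      change (lam t : ℂ) * conj (mu ⟨g⁻¹ * t * g, hgT t t.2⟩ : ℂ) = (lam t : ℂ) * conj ((tw cs R.nsys w mu) t : ℂ)
      rw [tw_eq hab hg]

/-- **The criterion in rank two, simply laced.** -/
theorem good5_of_two [Finite W] [Finite Y] (R : RGD cs h 2 T n X) (hG : GG cs h T X = ⊤) (hT : H601.OddDeg.TwoC Y)
    {a b : I} (hMab : M a b = 3) (hab : ∀ s ∈ T, ∀ t ∈ T, s * t = t * s) (hk : Nat.card W + 1 < Nat.card T) :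
    Good5 Y := by
  classical
  have : Fintype T := Fintype.ofFinite _
  obtain ⟨Λ, hΛ, hc⟩ := exists_lamSet R hab 1 (by rwa [one_mul])
  have n1 : a ≠ b := ne_of_M (M := M) (by rw [hMab]; decide)
  have e1 : ({a} : Set I).ncard = 1 := Set.ncard_singleton a
  have e2 : ({a, b} : Set I).ncard = 2 := Set.ncard_pair n1
  have d1 : ({a} : Set I) ≠ {a, b} := fun e => by rw [e, e2] at e1; omega
  refine good5_of R hG hT {{a}, {a, b}} ?_ ?_ hΛ ?_
  · intro K hK
    simp only [Finset.mem_insert, Finset.mem_singleton] at hK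
    rcases hK with rfl | rfl
    · exact ⟨⟨a, rfl⟩, oc_node R a b hMab⟩
    · exact ⟨⟨a, Or.inl rfl⟩, oc_two R hMab⟩
  · intro K hK J hJ hKJ hA
    have hcd := le_antisymm hA.1.ncard hA.2.ncard
    simp only [Finset.mem_insert, Finset.mem_singleton] at hK hJ
    rcases hK with rfl | rfl <;> rcases hJ with rfl | rfl <;>
      first
        | exact hKJ rfl
        | (simp only [e1, e2] at hcd; omega)
  · rw [hc, Finset.card_insert_of_notMem (by simp [d1]), Finset.card_singleton]

end rgd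

end Cfsg.Agent.H507.K4.Lam
end

-- part: H507/K4/PslThree
section
/-!
# Five good characters of `PSL₃(q)`, `q ≥ 8` even (helper507, TEAM K4)

`good5_psl3`.
-/

set_option autoImplicit false

open Cfsg

namespace Cfsg.Agent.H507.K4

open CoxeterSystem Cfsg.Agent.ChevalleyStructure.CoxeterGeom Cfsg.Agent.Tits.Roots Cfsg.Agent.Tits.Core
  Cfsg.Agent.Nodes.Comb Cfsg.Agent.Nodes Cfsg.Agent.H601.K4

universe u

/-- **Five good characters of `PSL₃(q)`, `q ≥ 8` even.** -/
theorem good5_psl3 {S : Type u} [Group S] [Finite S] [IsSimpleGroup S] (F : Type) [Field F] [Fintype F] [CharP F 2]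
    (h8 : 8 ≤ Fintype.card F) (e : S ≃* Matrix.ProjectiveSpecialLinearGroup (Fin 3) F) : Good5 S := by
  classical
  have : Fact (Nat.Prime 2) := ⟨Nat.prime_two⟩
  have hfin : Finite (Matrix.ProjectiveSpecialLinearGroup (Fin 3) F) := Quotient.finite _
  have hsim : IsSimpleGroup (Matrix.ProjectiveSpecialLinearGroup (Fin 3) F) := e.symm.isSimpleGroup
  have hL : IsLieTypeChar 2 (Matrix.ProjectiveSpecialLinearGroup (Fin 3) F) :=
    Or.inl ⟨F, inferInstance, inferInstance, inferInstance, 3, by norm_num, fun h => absurd h (by norm_num),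
      ⟨MulEquiv.refl _⟩⟩
  have hT := H742.TwoC.twoC_charTwo hL
  let cs := (Cfsg.Agent.LieRecognition.BNCox.cA 2).toCoxeterSystem
  have hW : Finite (Cfsg.Agent.LieRecognition.BNCox.cA 2).Group :=
    RootsA.finite_W cs (RootsA.isCartan 2)
  have hcW : Nat.card (Cfsg.Agent.LieRecognition.BNCox.cA 2).Group ≤ 6 :=
    SizeA.card_W_le cs (RootsA.isCartan 2)
  refine H740.K4.good5_of_equiv e (Lam.good5_of_two (a := (0 : Fin 2)) (b := 1)
    (RGDTypeA.rgd_psl (n := 2) (F := F) (p := 2) cs (RootsA.isCartan 2))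
    (KFacts.Mult.RGDW.GG_eq_top_of_G1 (RGDTypeA.G1_psl_eq_top (n := 2) (F := F) cs (RootsA.isCartan 2))) hT rfl ?_ ?_)
  · rintro _ ⟨s, hs, rfl⟩ _ ⟨t, ht, rfl⟩
    rw [← map_mul, ← map_mul, KFacts.Mult.TypeA.T_comm hs ht]
  · exact lt_of_le_of_lt (Nat.add_le_add_right hcW 1) (lt_trans (by norm_num) (SizeA.card_T_psl3 (F := F) h8))

end Cfsg.Agent.H507.K4
end

-- part: H151/K4/PSU42
section
/-!
# Five good characters of `PSU₄(2) ≅ PSp₄(3)`, and of all `PSU₄(q)`, `q` even (helper151, TEAM K4)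
-/

set_option autoImplicit false

open Cfsg

namespace Cfsg.Agent.H151.K4.PSU45

open Cfsg.Agent.H601.K4 Cfsg.Agent.Omega.ML.Ex.Typ

universe u

/-- **`PSp₄(3)`.** -/
theorem good5_psp4_three {S : Type u} [Group S] [Finite S] [IsSimpleGroup S] (e : S ≃* PSp 2 (ZMod 3)) : Good5 S := by
  have : Fact (Nat.Prime 3) := ⟨Nat.prime_three⟩
  exact good5_of_edge Nat.prime_three (by norm_num)
    (edge_B (n := 2) (by norm_num) ((typ_PSp (p := 3) (F := ZMod 3) (by norm_num)).of_equiv e.symm))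

/-- **`PSU₄(2)`.** -/
theorem good5_psu4_two {S : Type u} [Group S] [Finite S] [IsSimpleGroup S] {F : Type} [Field F] [Fintype F]
    (hF : Fintype.card F = 4) (e : S ≃* PSU 4 F 2) : Good5 S := by
  obtain ⟨f⟩ := S0822.result (K := ZMod 3) hF (ZMod.card 3)
  exact good5_psp4_three (e.trans f)

end Cfsg.Agent.H151.K4.PSU45
end

-- part: H687/FourK/Rows
section
/-!
# `Good5` for the simple groups `PSp₄(q)`, `G₂(q)`, `³D₄(q)`, `q` even (helper687, TEAM K4)
-/

set_option autoImplicit false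

open Cfsg

namespace Cfsg.Agent.H687.FourK

open Cfsg.Agent.H601.K4 (Good5)

universe u v

variable {S : Type u} [Group S] [Finite S] [IsSimpleGroup S]

theorem row_PSp4 (hS : IsLieTypeChar 2 S) {F : Type v} [Field F] [Fintype F] [CharP F 2] (hF : 3 ≤ Fintype.card F)
    (e : S ≃* PSp 2 F) : Good5 S :=
  H740.K4.good5_of_equiv e (Sp.good5_Sp4 F (by rwa [Nat.card_eq_fintype_card]) ((H742.TwoC.twoC_charTwo hS).congr e))

theorem row_G2 (hS : IsLieTypeChar 2 S) {F : Type v} [Field F] [Fintype F] [CharP F 2] (hF : 3 ≤ Fintype.card F)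
    (e : S ≃* ↥(Lie.chevG2.group F)) : Good5 S :=
  H740.K4.good5_of_equiv e (good5_chevG2 F hF ((H742.TwoC.twoC_charTwo hS).congr e))

theorem row_3D4 (hS : IsLieTypeChar 2 S) {K : Type v} [Field K] [Fintype K] [CharP K 2] {q : ℕ} (hq : IsPrimePow q)
    (hK : Fintype.card K = q ^ 3) (e : S ≃* ↥(Lie.twistedD4 K q)) : Good5 S :=
  H740.K4.good5_of_equiv e (good5_twistedD4 K q hq hK ((H742.TwoC.twoC_charTwo hS).congr e))

end Cfsg.Agent.H687.FourK
end

-- part: H345/K4/PSL34Data
section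
/-!
# `PSL₃(4)`: the group `M21` and the three sets of 56 hyperovals (helper345, for S4947 and S4547)

Lists of octads of `M24` through exactly two of the three points `∞, 0, 1`, in the order of an orbit computation of the
pointwise stabiliser of the three points, and the orbits of the stabilisers of one octad.
-/

set_option autoImplicit false

namespace Cfsg.Agent.H345.K4.PSL34

open Cfsg MulAction Cfsg.Agent.SporadicA.GolayBase Cfsg.Agent.SporadicA.GolayPerm
open Cfsg.Agent.SporadicStructure.M24El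
open scoped Pointwise

/-- Generators of the group. -/
def gG : List ℕ := [961388965038600954856745536151734304, 974230813260913038776140531380884512]

/-- Generators of the stabiliser of the base octad. -/
def gA0 : List ℕ := [971589824053803776246295981932090400, 981640161561886897514176059057515552]

/-- Generators of the stabiliser of the base octad. -/
def gA1 : List ℕ := [980720982550022212069549767738670112, 977640835963693729332983283098799136]

/-- Generators of the stabiliser of the base octad. -/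
def gA2 : List ℕ := [975673408333849830588960371677138976, 980509063294387670189564427799474208]

def L0 : List ℕ := [
  8688833, 13121601, 9048457, 9969957, 12641313, 8412681, 12650793, 8471941, 8675909, 10846245, 11575377,
  8946281, 12599513, 8546577, 9240913, 12325377, 12587685, 8619033, 15747077, 10486557, 9519665, 14950785,
  9830549, 10630149, 9607201, 9748745, 8966165, 12880401, 8593633, 11046145, 10110017, 10557585, 13771273,
  15335473, 8783649, 9776129, 9506893, 13636881, 12747077, 9193633, 8499969, 14254209, 10881097, 9112069,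
  11535529, 14747201, 9440193, 13370381, 10506593, 8431757, 11100169, 10666625, 8922769, 8663097, 13062145,
  8391797]

def s0 : List (ℕ × ℕ) := [
  (0, 0), (1, 1), (1, 0), (2, 1), (2, 0), (3, 1), (3, 0), (4, 1), (4, 0), (5, 1), (5, 0), (6, 1), (6, 0), (6,
  0), (7, 1), (7, 1), (7, 0), (8, 1), (7, 0), (8, 1), (8, 0), (9, 1), (9, 0), (10, 1), (10, 1), (10, 0), (10,
  0), (10, 0), (10, 0), (11, 1), (11, 1), (11, 0), (12, 1), (12, 1), (12, 0), (12, 0), (13, 1), (13, 1), (13,
  0), (14, 1), (14, 1), (13, 0), (14, 1), (14, 1), (13, 1), (13, 1), (13, 0), (13, 1), (12, 1), (11, 0), (11,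
  1), (11, 0), (11, 1), (9, 1), (6, 0)]

def L1 : List ℕ := [
  8989058, 15073798, 9503954, 13142054, 11272490, 8704546, 14762146, 10825794, 9578566, 9998658, 12604486,
  8611330, 11831426, 8925710, 9045270, 8937586, 10650722, 8660134, 9543722, 10543366, 10491778, 12624578,
  8849458, 9835530, 13703682, 13631886, 13811730, 13373586, 9708306, 8622214, 10305542, 11538486, 12726562,
  12944642, 8798658, 10554382, 11551306, 14682450, 9178690, 9456930, 16262146, 8455014, 8407702, 10625178,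
  8555274, 8963210, 11108882, 10093218, 12871690, 8474906, 8683614, 11163650, 12584506, 8436754, 13303882,
  8394986]

def s1 : List (ℕ × ℕ) := [
  (0, 0), (1, 1), (1, 0), (2, 1), (2, 1), (2, 0), (3, 1), (3, 0), (4, 1), (3, 0), (4, 1), (4, 0), (5, 1), (5,
  0), (6, 1), (6, 0), (6, 1), (6, 1), (6, 0), (7, 1), (7, 0), (7, 0), (8, 1), (8, 0), (9, 1), (9, 0), (10, 1),
  (10, 1), (10, 0), (10, 0), (11, 1), (11, 0), (12, 1), (12, 0), (13, 1), (12, 1), (12, 1), (12, 0), (12, 1),
  (11, 0), (9, 0), (9, 0), (10, 1), (10, 0), (10, 1), (10, 0), (9, 1), (9, 0), (8, 0), (8, 0), (9, 1), (9, 1),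
  (9, 1), (9, 1), (4, 0)]

def L2 : List ℕ := [
  1212619, 4264387, 4470275, 1413139, 45159, 4505735, 2392899, 3416079, 4196943, 2115979, 18147, 1116327,
  4587803, 185603, 459847, 3152963, 5902343, 6292775, 1836419, 1065303, 140167, 1188915, 5286147, 57883,
  737427, 622863, 3719203, 69395, 352547, 2204803, 1647171, 2183687, 7340691, 1460739, 7145475, 1053483,
  4216883, 2634003, 4424227, 786999, 2494627, 5325835, 6447171, 2263063, 2754059, 4752467, 657763, 551943,
  2162811, 272595, 210955, 563843, 4726955, 298027, 806987, 5279]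

def s2 : List (ℕ × ℕ) := [
  (0, 0), (1, 1), (1, 0), (2, 1), (2, 0), (3, 1), (3, 0), (4, 1), (4, 0), (5, 1), (5, 0), (6, 1), (6, 0), (6,
  0), (6, 0), (7, 1), (7, 0), (8, 1), (8, 0), (8, 0), (9, 1), (9, 0), (9, 0), (10, 1), (9, 0), (10, 1), (10,
  0), (10, 0), (10, 0), (11, 1), (11, 0), (12, 1), (12, 1), (12, 0), (12, 0), (12, 0), (12, 0), (12, 0), (13,
  1), (13, 0), (14, 1), (13, 0), (14, 1), (14, 0), (13, 0), (13, 0), (14, 1), (13, 1), (13, 0), (13, 0), (13,
  0), (13, 0), (11, 0), (8, 0), (8, 0)]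

def L00a : List ℕ := [
  13636881, 10846245, 10630149, 12599513, 8783649, 10557585, 9193633, 9830549, 12587685, 12747077, 8946281,
  8431757, 10110017, 12641313, 10486557, 9506893, 13121601, 9112069, 8593633, 15335473, 8663097, 13370381,
  11535529, 8966165, 9240913, 9776129, 11046145, 9519665, 8688833, 12880401, 12650793, 9969957, 8922769,
  8619033, 14747201, 8546577, 8675909, 10881097, 8471941, 11575377, 9440193, 9607201, 10506593, 15747077,
  8412681]

def s00a : List (ℕ × ℕ) := [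
  (0, 0), (1, 1), (1, 0), (2, 1), (2, 0), (3, 1), (3, 0), (4, 1), (4, 0), (5, 1), (5, 0), (6, 1), (6, 0), (7,
  1), (7, 0), (8, 1), (8, 0), (9, 1), (9, 0), (10, 1), (10, 0), (11, 1), (11, 0), (12, 1), (12, 1), (12, 0),
  (13, 1), (13, 0), (14, 1), (13, 0), (14, 1), (14, 0), (14, 0), (14, 1), (12, 0), (13, 1), (11, 1), (10, 0),
  (10, 0), (7, 1), (6, 0), (7, 1), (2, 1), (2, 0)]

def L00b : List ℕ := [
  10666625, 9748745, 12325377, 13062145, 14950785, 13771273, 9048457, 14254209, 11100169, 8499969]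

def s00b : List (ℕ × ℕ) := [
  (0, 0), (0, 0), (1, 1), (1, 1), (1, 0), (2, 1), (2, 1), (1, 1), (1, 0)]

def L01a : List ℕ := [
  9178690, 8683614, 8849458, 8660134, 13142054, 8455014, 9578566, 8407702, 10650722, 12584506, 9045270,
  8937586, 10554382, 9456930, 11538486, 9503954, 8436754, 12604486, 14682450, 8394986]

def s01a : List (ℕ × ℕ) := [
  (0, 0), (1, 1), (1, 0), (2, 1), (2, 0), (3, 1), (3, 0), (4, 1), (4, 0), (5, 1), (5, 0), (6, 1), (6, 0), (7,
  1), (7, 0), (6, 0), (7, 1), (6, 0), (5, 1)]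

def L01b : List ℕ := [
  12726562, 13631886, 9835530, 10825794, 8989058, 13303882, 14762146, 8963210, 10305542, 13373586, 10491778,
  13811730, 8555274, 10543366, 9543722, 8925710, 11108882, 8611330, 10625178, 11551306, 11163650, 11831426,
  8704546, 12944642, 9708306, 9998658, 13703682, 12624578, 15073798, 8798658, 12871690, 11272490, 10093218,
  8622214, 16262146, 8474906]

def s01b : List (ℕ × ℕ) := [
  (0, 0), (0, 0), (1, 1), (1, 0), (2, 1), (2, 0), (3, 1), (3, 0), (3, 0), (4, 1), (4, 0), (5, 1), (5, 0), (6,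
  1), (5, 0), (6, 1), (6, 0), (7, 1), (7, 1), (7, 0), (8, 1), (8, 1), (8, 0), (7, 0), (8, 1), (8, 1), (8, 0),
  (8, 0), (8, 0), (8, 0), (8, 1), (8, 1), (8, 0), (5, 0), (6, 1)]

def L02a : List ℕ := [
  786999, 298027, 459847, 272595, 4752467, 69395, 1188915, 18147, 2263063, 4196943, 657763, 551943, 2162811,
  1065303, 3152963, 1116327, 45159, 4216883, 6292775, 5279]

def s02a : List (ℕ × ℕ) := [
  (0, 0), (1, 1), (1, 0), (2, 1), (2, 0), (3, 1), (3, 0), (4, 1), (4, 0), (5, 1), (5, 0), (6, 1), (6, 0), (7,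
  1), (7, 0), (6, 0), (7, 1), (6, 0), (5, 1)]

def L02b : List ℕ := [
  185603, 7340691, 563843, 1647171, 3416079, 352547, 806987, 7145475, 1212619, 2754059, 5286147, 4470275,
  4424227, 140167, 4264387, 210955, 2115979, 3719203, 1413139, 4505735, 2392899, 4587803, 1836419, 4726955,
  622863, 2183687, 6447171, 1460739, 2494627, 737427, 2204803, 1053483, 5902343, 2634003, 5325835, 57883]

def s02b : List (ℕ × ℕ) := [
  (0, 0), (1, 1), (1, 0), (2, 1), (2, 0), (3, 1), (3, 0), (4, 1), (4, 0), (5, 1), (5, 0), (6, 1), (6, 0), (7,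
  1), (7, 0), (8, 1), (7, 0), (7, 0), (8, 1), (8, 1), (8, 0), (8, 0), (9, 1), (9, 0), (8, 1), (8, 0), (8, 0),
  (7, 0), (8, 1), (7, 0), (7, 1), (6, 1), (4, 0), (4, 0), (5, 1)]

def L11a : List ℕ := [
  11538486, 11551306, 12604486, 14682450, 8683614, 11163650, 13703682, 10554382, 9835530, 8937586, 10093218,
  8963210, 12584506, 8704546, 8660134, 8925710, 9543722, 8798658, 10625178, 13303882, 9998658, 10650722,
  13373586, 13142054, 11831426, 8436754, 8849458, 8622214, 8989058, 14762146, 13631886, 12871690, 9578566,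
  10825794, 12726562, 8455014, 10491778, 9456930, 9503954, 8474906, 8555274, 9178690, 11272490, 12624578,
  8407702]

def s11a : List (ℕ × ℕ) := [
  (0, 0), (1, 1), (1, 0), (2, 1), (2, 0), (3, 1), (3, 1), (3, 0), (4, 1), (4, 0), (5, 1), (5, 0), (6, 1), (6,
  0), (7, 1), (6, 1), (6, 1), (6, 0), (7, 1), (7, 0), (8, 1), (8, 0), (9, 1), (9, 0), (10, 1), (10, 1), (10,
  0), (11, 1), (11, 1), (11, 1), (11, 1), (11, 1), (11, 0), (12, 1), (12, 0), (13, 1), (13, 0), (13, 1), (13,
  0), (13, 1), (13, 0), (8, 0), (9, 1), (7, 0)]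

def L11b : List ℕ := [
  16262146, 13811730, 10305542, 9708306, 12944642, 9045270, 11108882, 10543366, 15073798, 8611330]

def s11b : List (ℕ × ℕ) := [
  (0, 0), (1, 1), (1, 0), (2, 1), (2, 0), (2, 1), (2, 1), (0, 0), (1, 1)]

def L12a : List ℕ := [
  272595, 210955, 657763, 2162811, 1212619, 4264387, 2115979, 4196943, 1116327, 2494627, 4726955, 1053483,
  18147, 3152963, 4216883, 563843, 298027, 806987, 45159, 5279]

def s12a : List (ℕ × ℕ) := [
  (0, 0), (1, 1), (1, 0), (2, 1), (2, 0), (3, 1), (3, 1), (3, 1), (3, 0), (4, 1), (4, 0), (4, 0), (5, 1), (5,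
  1), (5, 1), (5, 0), (4, 1), (3, 1), (2, 1)]

def L12b : List ℕ := [
  7340691, 4505735, 551943, 4752467, 1460739, 2263063, 3719203, 1188915, 459847, 1413139, 2754059, 3416079,
  1647171, 6447171, 5902343, 7145475, 5286147, 2204803, 4587803, 2634003, 4424227, 737427, 622863, 5325835,
  1065303, 352547, 140167, 2183687, 6292775, 1836419, 69395, 185603, 786999, 2392899, 4470275, 57883]

def s12b : List (ℕ × ℕ) := [
  (0, 0), (1, 1), (1, 0), (2, 1), (2, 0), (2, 1), (2, 0), (3, 1), (3, 0), (4, 1), (4, 0), (5, 1), (5, 0), (6,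
  1), (6, 0), (7, 1), (6, 0), (7, 1), (7, 0), (8, 1), (8, 0), (9, 1), (9, 1), (9, 1), (9, 0), (9, 1), (9, 1),
  (7, 1), (7, 0), (7, 1), (7, 0), (7, 1), (5, 1), (5, 1), (5, 1)]

def L22a : List ℕ := [
  3152963, 7340691, 551943, 2263063, 737427, 185603, 459847, 1053483, 786999, 2494627, 806987, 622863, 3416079,
  4196943, 4216883, 4470275, 272595, 2115979, 2204803, 4264387, 69395, 1836419, 4726955, 4587803, 1212619,
  2183687, 45159, 1065303, 2754059, 1188915, 2634003, 4752467, 5325835, 140167, 298027, 1116327, 563843,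
  1413139, 5902343, 57883, 2162811, 6292775, 4505735, 210955, 18147]

def s22a : List (ℕ × ℕ) := [
  (0, 0), (1, 1), (1, 0), (2, 1), (2, 0), (3, 1), (3, 0), (4, 1), (4, 0), (5, 1), (5, 0), (6, 1), (6, 0), (7,
  1), (7, 1), (7, 0), (8, 1), (8, 1), (8, 0), (9, 1), (9, 0), (9, 1), (9, 1), (9, 1), (9, 0), (10, 1), (10, 1),
  (10, 0), (11, 1), (10, 1), (10, 0), (11, 1), (10, 0), (10, 0), (10, 0), (10, 1), (10, 0), (9, 1), (9, 0),
  (10, 1), (9, 0), (7, 0), (3, 1), (2, 1)]

def L22b : List ℕ := [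
  6447171, 1460739, 7145475, 2392899, 657763, 5286147, 1647171, 3719203, 4424227, 352547]

def s22b : List (ℕ × ℕ) := [
  (0, 1), (0, 1), (0, 0), (1, 1), (1, 0), (1, 0), (1, 0), (1, 0), (0, 0)]

/-! ### the group and the sets -/

/-- The pointwise stabiliser of the three points. -/
abbrev GG : Subgroup M24 :=
  stabilizer M24 (none : GolayPt) ⊓ stabilizer M24 (some 0 : GolayPt) ⊓ stabilizer M24 (some 1 : GolayPt)

theorem mem_GG {g : M24} : g ∈ GG ↔ (g • (none : GolayPt) = none ∧ g • (some 0 : GolayPt) = some 0) ∧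
    g • (some 1 : GolayPt) = some 1 := Iff.rfl

/-- The three points. -/
def T : Finset GolayPt := {none, some 0, some 1}

theorem mem_T {p : GolayPt} : p ∈ T ↔ p = none ∨ p = some 0 ∨ p = some 1 := by
  unfold T
  simp only [Finset.mem_insert, Finset.mem_singleton]

theorem smul_of_mem_T (g : GG) {p : GolayPt} (hp : p ∈ T) : (g : M24) • p = p := by
  obtain ⟨⟨h1, h2⟩, h3⟩ := mem_GG.1 g.2
  rcases mem_T.1 hp with rfl | rfl | rfl
  · exact h1
  · exact h2
  · exact h3

theorem smul_sub_T (g : GG) {U : Finset GolayPt} (hU : U ⊆ T) : (g : M24) • U = U := by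
  have h : (g : M24) • U = U.image fun p => (g : M24) • p := rfl
  rw [h]
  conv_rhs => rw [← Finset.image_id (s := U)]
  exact Finset.image_congr fun p hp => smul_of_mem_T g (hU hp)

/-- The octads with a given intersection with the three points. -/
def X (v : ℕ) : Type := {s : Finset GolayPt // s ∈ octads ∧ s ∩ T = fin v}

instance (v : ℕ) : Finite (X v) := by
  unfold X
  infer_instance

theorem smul_mem (g : GG) {v : ℕ} {s : Finset GolayPt} (h : s ∈ octads ∧ s ∩ T = fin v) :
    (g : M24) • s ∈ octads ∧ ((g : M24) • s) ∩ T = fin v := by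
  refine ⟨(smul_mem_octads (g : M24).2).2 h.1, ?_⟩
  have h1 : (g : M24) • (s ∩ T) = ((g : M24) • s) ∩ ((g : M24) • T) := Finset.smul_finset_inter
  have h2 : (g : M24) • T = T := smul_sub_T g (Finset.Subset.refl T)
  have h3 : (g : M24) • (s ∩ T) = s ∩ T := smul_sub_T g Finset.inter_subset_right
  rw [← h.2, ← h3, h1, h2]

instance (v : ℕ) : MulAction GG (X v) where
  smul g s := ⟨(g : M24) • s.1, smul_mem g s.2⟩
  one_smul s := Subtype.ext (one_smul M24 s.1)
  mul_smul g h s := Subtype.ext (mul_smul (g : M24) (h : M24) s.1)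

theorem coe_smul {v : ℕ} (g : GG) (s : X v) : (g • s).1 = (g : M24) • s.1 := rfl

/-- The other 21 points. -/
def P : Type := {p : GolayPt // p ∉ T}

instance : Finite P := by
  unfold P
  infer_instance

theorem smul_notMem (g : GG) {p : GolayPt} (hp : p ∉ T) : (g : M24) • p ∉ T := by
  intro h
  apply hp
  have h1 : (g : M24)⁻¹ • ((g : M24) • p) = (g : M24) • p := smul_of_mem_T g⁻¹ h
  rw [inv_smul_smul] at h1
  rwa [h1]

instance : MulAction GG P where
  smul g p := ⟨(g : M24) • p.1, smul_notMem g p.2⟩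
  one_smul p := Subtype.ext (one_smul M24 p.1)
  mul_smul g h p := Subtype.ext (mul_smul (g : M24) (h : M24) p.1)

theorem coe_smul_P (g : GG) (p : P) : (g • p).1 = (g : M24) • p.1 := rfl

/-! ### packed permutations -/

/-- A packed permutation in the group. -/
def inG (Q : ℕ) : Bool := ok Q && (Nat.beq (papp Q 23) 23 && (Nat.beq (papp Q 0) 0 && Nat.beq (papp Q 1) 1))

theorem el_mem_GG {Q : ℕ} (h : inG Q = true) : el Q ∈ GG := by
  unfold inG at h
  rw [Bool.and_eq_true, Bool.and_eq_true, Bool.and_eq_true] at h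
  obtain ⟨h1, h2, h3, h4⟩ := h
  refine mem_GG.2 ⟨⟨?_, ?_⟩, ?_⟩
  · rw [el_smul_pt h1]
    show pt (papp Q 23) = none
    rw [Nat.eq_of_beq_eq_true h2]
    rfl
  · rw [el_smul_pt h1]
    show pt (papp Q 0) = some 0
    rw [Nat.eq_of_beq_eq_true h3]
    rfl
  · rw [el_smul_pt h1]
    show pt (papp Q 1) = some 1
    rw [Nat.eq_of_beq_eq_true h4]
    rfl

/-- `m` is in the orbit of `b`. -/
def Reach (K : Subgroup M24) (b m : ℕ) : Prop := ∃ g ∈ K, g • fin b = fin m

/-- Orbit computation. -/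
def build (gl : List ℕ) (b : ℕ) : List (ℕ × ℕ) → List ℕ → List ℕ
  | [], acc => acc
  | (j, k) :: st, acc => build gl b st (pimg (gl.getD k idP) (acc.getD j b) :: acc)

theorem getD_prop {α : Type*} {p : α → Prop} {l : List α} {d : α} (hl : ∀ a ∈ l, p a) (hd : p d) (i : ℕ) :
    p (l.getD i d) := by
  by_cases hi : i < l.length
  · rw [List.getD_eq_getElem _ _ hi]
    exact hl _ (List.getElem_mem hi)
  · rw [List.getD_eq_default _ _ (by omega)]
    exact hd

theorem build_spec {K : Subgroup M24} {gl : List ℕ} (hK : ∀ Q ∈ gl, ok Q = true ∧ el Q ∈ K) {b : ℕ}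
    (st : List (ℕ × ℕ)) : ∀ acc : List ℕ, (∀ m ∈ acc, Reach K b m) → ∀ m ∈ build gl b st acc, Reach K b m := by
  induction st with
  | nil => exact fun acc h => h
  | cons a st ih =>
    intro acc h
    obtain ⟨j, k⟩ := a
    refine ih _ ?_
    intro m hm
    rcases List.mem_cons.1 hm with rfl | hm
    · obtain ⟨g, hg, hg'⟩ := getD_prop (p := Reach K b) h ⟨1, K.one_mem, one_smul M24 _⟩ j
      obtain ⟨h1, h2⟩ := getD_prop (p := fun Q => ok Q = true ∧ el Q ∈ K) hK
        ⟨ok_idP, by rw [el_idP]; exact K.one_mem⟩ k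
      refine ⟨el (gl.getD k idP) * g, K.mul_mem h2 hg, ?_⟩
      rw [mul_smul, hg', el_smul_fin h1]
    · exact h m hm

theorem reach_of_build {K : Subgroup M24} {gl : List ℕ} (hK : ∀ Q ∈ gl, ok Q = true ∧ el Q ∈ K) {b : ℕ}
    {st : List (ℕ × ℕ)} {l : List ℕ} (h : build gl b st [b] = l) : ∀ m ∈ l, Reach K b m := by
  rw [← h]
  refine build_spec hK st [b] ?_
  intro m hm
  rw [List.mem_singleton.1 hm]
  exact ⟨1, K.one_mem, one_smul M24 _⟩

/-! ### the 56 octads -/

/-- The test for all octads. -/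
def allOct (v : ℕ) (l : List ℕ) : Bool :=
  allR 12 0 fun i => !(Nat.beq (popcount (enc i)) 8 && Nat.beq (enc i &&& 8388611) v) || l.any fun x => Nat.beq x (enc i)

/-- The test of an octad. -/
def okO (v m : ℕ) : Bool := isCode m && (Nat.beq (popcount m) 8 && Nat.beq (m &&& 8388611) v)

theorem fin_T : fin 8388611 = T := by decide +kernel

structure Dat (v : ℕ) (l : List ℕ) (b : ℕ) : Prop where
  all : allOct v l = true
  okl : (l.all fun m => okO v m) = true
  reach : ∀ m ∈ l, Reach GG b m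
  hv : v < 2 ^ 24
  nodup : l.Nodup
  len : l.length = 56
  hb : b ∈ l

section Dat

variable {v : ℕ} {l : List ℕ} {b : ℕ}

theorem Dat.ok (D : Dat v l b) {m : ℕ} (hm : m ∈ l) : m < 2 ^ 24 ∧ (fin m ∈ octads ∧ fin m ∩ T = fin v) := by
  have h := List.all_eq_true.1 D.okl m hm
  unfold okO at h
  rw [Bool.and_eq_true, Bool.and_eq_true] at h
  obtain ⟨h1, h2, h3⟩ := h
  have hlt := isCode_lt h1
  refine ⟨hlt, (fin_mem_octads_iff hlt).2 ⟨h1, Nat.eq_of_beq_eq_true h2⟩, ?_⟩
  rw [← fin_T, ← fin_and, Nat.eq_of_beq_eq_true h3]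

theorem Dat.mem (D : Dat v l b) (s : X v) : maskOf s.1 ∈ l := by
  obtain ⟨h1, h2⟩ := (mem_octads_iff s.1).1 s.2.1
  obtain ⟨i, hi, hi'⟩ := isCode_iff_exists.1 h1
  have h3 := allR_zero_spec D.all i hi
  have h4 : maskOf s.1 &&& 8388611 = v := by
    apply fin_injective (lt_of_le_of_lt Nat.and_le_left (maskOf_lt _)) D.hv
    rw [fin_and, fin_maskOf, fin_T]
    exact s.2.2
  have h5 : (Nat.beq (popcount (enc i)) 8 && Nat.beq (enc i &&& 8388611) v) = true := by
    rw [← hi', Bool.and_eq_true]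
    exact ⟨by rw [h2]; rfl, by rw [h4]; exact Nat.beq_refl v⟩
  rw [h5, Bool.not_true, Bool.false_or] at h3
  obtain ⟨x, hx, hx'⟩ := List.any_eq_true.1 h3
  rw [hi', ← Nat.eq_of_beq_eq_true hx']
  exact hx

/-- The octad of a member of the list. -/
def Dat.o (D : Dat v l b) {m : ℕ} (hm : m ∈ l) : X v := ⟨fin m, (D.ok hm).2⟩

theorem Dat.card (D : Dat v l b) : Nat.card (X v) = 56 := by
  have h : Nat.card (X v) = Nat.card {m : ℕ // m ∈ l.toFinset} := by
    refine Nat.card_congr
      { toFun := fun s => ⟨maskOf s.1, List.mem_toFinset.2 (D.mem s)⟩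
        invFun := fun m => D.o (List.mem_toFinset.1 m.2)
        left_inv := fun s => Subtype.ext (fin_maskOf s.1)
        right_inv := fun m => Subtype.ext (maskOf_fin (D.ok (List.mem_toFinset.1 m.2)).1) }
  rw [h, Nat.card_eq_fintype_card, Fintype.card_coe, List.toFinset_card_of_nodup D.nodup, D.len]

theorem Dat.exists_smul (D : Dat v l b) (s : X v) : ∃ g : GG, g • D.o D.hb = s := by
  obtain ⟨g, hg, h⟩ := D.reach _ (D.mem s)
  refine ⟨⟨g, hg⟩, Subtype.ext ?_⟩
  rw [fin_maskOf] at h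
  exact h

end Dat

/-! ### orbits on pairs -/

theorem rank_le {G A B : Type*} [Group G] [MulAction G A] [MulAction G B] (a : A) (ha : ∀ x, ∃ g : G, g • a = x) {n : ℕ}
    (r : Fin n → B) (hr : ∀ y, ∃ g : G, g • a = a ∧ ∃ i, g • r i = y) :
    Nat.card (Quotient (orbitRel G (A × B))) ≤ n := by
  have h : Function.Surjective (fun i : Fin n => (Quotient.mk _ (a, r i) : Quotient (orbitRel G (A × B)))) := by
    intro q
    induction q using Quotient.inductionOn with | _ p =>
    obtain ⟨x, y⟩ := p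
    obtain ⟨g, rfl⟩ := ha x
    obtain ⟨k, hk, i, hi⟩ := hr (g⁻¹ • y)
    refine ⟨i, Quotient.sound ?_⟩
    refine ⟨(g * k)⁻¹, ?_⟩
    show (g * k)⁻¹ • (g • a, y) = (a, r i)
    rw [inv_smul_eq_iff, Prod.smul_mk, mul_smul, mul_smul, hk, hi, smul_inv_smul]
  have h2 := Nat.card_le_card_of_surjective _ h
  rwa [Nat.card_fin] at h2

theorem Dat.rank_le {v v' : ℕ} {l l' : List ℕ} {b b' : ℕ} (D : Dat v l b) (D' : Dat v' l' b') {n : ℕ} (r : Fin n → ℕ)
    (hr : ∀ i, r i ∈ l') (hc : ∀ m ∈ l', ∃ i, Reach (GG ⊓ stabilizer M24 (fin b)) (r i) m) :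
    Nat.card (Quotient (orbitRel GG (X v × X v'))) ≤ n := by
  refine PSL34.rank_le (D.o D.hb) D.exists_smul (fun i => D'.o (hr i)) fun y => ?_
  obtain ⟨i, g, ⟨hg, hg'⟩, h⟩ := hc _ (D'.mem y)
  refine ⟨⟨g, hg⟩, Subtype.ext hg', i, Subtype.ext ?_⟩
  rw [fin_maskOf] at h
  exact h

/-- The incidence between points and octads. -/
theorem Dat.two_le {v : ℕ} {l : List ℕ} {b : ℕ} (D : Dat v l b) {p q : GolayPt} (hp : p ∉ T) (hq : q ∉ T)
    (h1 : p ∈ fin b) (h2 : q ∉ fin b) : 2 ≤ Nat.card (Quotient (orbitRel GG (X v × P))) := by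
  classical
  let f : Quotient (orbitRel GG (X v × P)) → Bool := Quotient.lift (fun z : X v × P => decide (z.2.1 ∈ z.1.1)) (by
    rintro ⟨a, c⟩ ⟨a', c'⟩ ⟨g, hg⟩
    have e1 : g • a' = a := congrArg Prod.fst hg
    have e2 : g • c' = c := congrArg Prod.snd hg
    rw [decide_eq_decide, ← e1, ← e2, coe_smul, coe_smul_P]
    exact Finset.smul_mem_smul_finset_iff _)
  have hf : Function.Surjective f := by
    intro t
    cases t
    · exact ⟨Quotient.mk _ (D.o D.hb, ⟨q, hq⟩), decide_eq_false h2⟩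
    · exact ⟨Quotient.mk _ (D.o D.hb, ⟨p, hp⟩), decide_eq_true h1⟩
  have : Finite (Quotient (orbitRel GG (X v × P))) := Quotient.finite _
  have h3 := Nat.card_le_card_of_surjective f hf
  rwa [Nat.card_eq_fintype_card (α := Bool), Fintype.card_bool] at h3

theorem exists_PP {p q : GolayPt} (hp : p ∉ T) (hq : q ∉ T) (hpq : p ≠ q) :
    ∃ g : GG, (g : M24) • (some 2 : GolayPt) = p ∧ (g : M24) • (some 3 : GolayPt) = q := by
  have h5 : IsMultiplyPretransitive M24 GolayPt 5 := Cfsg.Agent.S0366.result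
  rw [isMultiplyPretransitive_iff] at h5
  have hx : Function.Injective ![(none : GolayPt), some 0, some 1, some 2, some 3] := by decide
  rw [mem_T, not_or, not_or] at hp hq
  obtain ⟨hp1, hp2, hp3⟩ := hp
  obtain ⟨hq1, hq2, hq3⟩ := hq
  have hy : Function.Injective ![(none : GolayPt), some 0, some 1, p, q] := by
    intro i j hij
    have hp1' := Ne.symm hp1
    have hp2' := Ne.symm hp2
    have hp3' := Ne.symm hp3
    have hq1' := Ne.symm hq1
    have hq2' := Ne.symm hq2
    have hq3' := Ne.symm hq3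
    have hpq' := Ne.symm hpq
    have h01 : (some 0 : GolayPt) ≠ some 1 := by decide
    have h10 := Ne.symm h01
    have hn0 : (none : GolayPt) ≠ some 0 := by decide
    have h0n := Ne.symm hn0
    have hn1 : (none : GolayPt) ≠ some 1 := by decide
    have h1n := Ne.symm hn1
    fin_cases i <;> fin_cases j <;> first | rfl | exact absurd hij (by assumption)
  obtain ⟨g, hg⟩ := h5 (x := ⟨_, hx⟩) (y := ⟨_, hy⟩)
  have hg0 : g • (none : GolayPt) = none := DFunLike.congr_fun hg 0
  have hg1 : g • (some 0 : GolayPt) = some 0 := DFunLike.congr_fun hg 1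
  have hg2 : g • (some 1 : GolayPt) = some 1 := DFunLike.congr_fun hg 2
  have hg3 : g • (some 2 : GolayPt) = p := DFunLike.congr_fun hg 3
  have hg4 : g • (some 3 : GolayPt) = q := DFunLike.congr_fun hg 4
  exact ⟨⟨g, mem_GG.2 ⟨⟨hg0, hg1⟩, hg2⟩⟩, hg3, hg4⟩

theorem two_notMem : (some 2 : GolayPt) ∉ T := by decide

theorem three_notMem : (some 3 : GolayPt) ∉ T := by decide

/-- The point `2`. -/
def p2 : P := ⟨some 2, two_notMem⟩

/-- The point `3`. -/
def p3 : P := ⟨some 3, three_notMem⟩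

theorem exists_other (p : P) : ∃ q : P, p ≠ q := by
  by_cases h : p.1 = some 2
  · refine ⟨p3, fun h' => ?_⟩
    rw [h'] at h
    exact absurd h (by decide)
  · exact ⟨p2, fun h' => h (by rw [h']; rfl)⟩

theorem exists_smul_P (p : P) : ∃ g : GG, g • p2 = p := by
  obtain ⟨q, hq⟩ := exists_other p
  obtain ⟨g, h1, -⟩ := exists_PP p.2 q.2 (fun h => hq (Subtype.ext h))
  exact ⟨g, Subtype.ext h1⟩

theorem rank_P : Nat.card (Quotient (orbitRel GG (P × P))) ≤ 2 := by
  refine rank_le p2 exists_smul_P ![p2, p3] fun y => ?_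
  by_cases h : y = p2
  · exact ⟨1, one_smul _ _, 0, by rw [one_smul]; exact h.symm⟩
  · obtain ⟨g, h1, h2⟩ := exists_PP two_notMem y.2 (fun h' => h (Subtype.ext h'.symm))
    exact ⟨g, Subtype.ext h1, 1, Subtype.ext h2⟩

theorem card_P : Nat.card P = 21 := by
  unfold P
  rw [Nat.card_eq_fintype_card]
  decide +kernel

/-! ### the checks -/

private noncomputable def _root_.Cfsg.Agent.GolayF.f0 : {f // @Cfsg.Agent.H345.K4.PSL34.inG = f} :=
  ⟨_, by delta Cfsg.Agent.H345.K4.PSL34.inG Cfsg.Agent.SporadicStructure.M24El.ok; rewrite [Cfsg.Agent.GolayF.papp_eq, Cfsg.Agent.GolayF.isPerm_eq, Cfsg.Agent.GolayF.isAut_eq]; exact rfl⟩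

theorem gG_ok : (gG.all fun Q => inG Q) = true := by (rewrite [Cfsg.Agent.GolayF.f0.2]; decide +kernel)

theorem gG_spec : ∀ Q ∈ gG, ok Q = true ∧ el Q ∈ GG := by
  intro Q hQ
  have h := List.all_eq_true.1 gG_ok Q hQ
  refine ⟨?_, el_mem_GG h⟩
  unfold inG at h
  rw [Bool.and_eq_true] at h
  exact h.1

theorem gA_spec {l : List ℕ} {b : ℕ} (h : (l.all fun Q => inG Q && Nat.beq (pimg Q b) b) = true) :
    ∀ Q ∈ l, ok Q = true ∧ el Q ∈ GG ⊓ stabilizer M24 (fin b) := by
  intro Q hQ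
  have h := List.all_eq_true.1 h Q hQ
  rw [Bool.and_eq_true] at h
  have h1 : ok Q = true := by
    have h2 := h.1
    unfold inG at h2
    rw [Bool.and_eq_true] at h2
    exact h2.1
  refine ⟨h1, Subgroup.mem_inf.2 ⟨el_mem_GG h.1, mem_stabilizer_iff.2 ?_⟩⟩
  rw [el_smul_fin h1, Nat.eq_of_beq_eq_true h.2]

theorem gA0_spec : ∀ Q ∈ gA0, ok Q = true ∧ el Q ∈ GG ⊓ stabilizer M24 (fin 8391797) := gA_spec (by (rewrite [Cfsg.Agent.GolayF.f0.2, Cfsg.Agent.GolayF.pimg_eq]; decide +kernel))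

theorem gA1_spec : ∀ Q ∈ gA1, ok Q = true ∧ el Q ∈ GG ⊓ stabilizer M24 (fin 8394986) := gA_spec (by (rewrite [Cfsg.Agent.GolayF.f0.2, Cfsg.Agent.GolayF.pimg_eq]; decide +kernel))

theorem gA2_spec : ∀ Q ∈ gA2, ok Q = true ∧ el Q ∈ GG ⊓ stabilizer M24 (fin 5279) := gA_spec (by (rewrite [Cfsg.Agent.GolayF.f0.2, Cfsg.Agent.GolayF.pimg_eq]; decide +kernel))

private noncomputable def _root_.Cfsg.Agent.GolayF.f1 : {f // @Cfsg.Agent.H345.K4.PSL34.allOct = f} :=
  ⟨_, by delta Cfsg.Agent.H345.K4.PSL34.allOct; rewrite [Cfsg.Agent.GolayF.enc_eq, Cfsg.Agent.GolayF.popcount_eq]; exact rfl⟩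

private noncomputable def _root_.Cfsg.Agent.GolayF.f2 : {f // @Cfsg.Agent.H345.K4.PSL34.okO = f} :=
  ⟨_, by delta Cfsg.Agent.H345.K4.PSL34.okO; rewrite [Cfsg.Agent.GolayF.isCode_eq, Cfsg.Agent.GolayF.popcount_eq]; exact rfl⟩

private noncomputable def _root_.Cfsg.Agent.GolayF.f3 : {f // @Cfsg.Agent.H345.K4.PSL34.build = f} :=
  ⟨_, by delta Cfsg.Agent.H345.K4.PSL34.build Cfsg.Agent.H345.K4.PSL34.build._f; rewrite [Cfsg.Agent.GolayF.pimg_eq]; exact rfl⟩

theorem D0 : Dat 8388609 L0 8391797 where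
  all := by (rewrite [Cfsg.Agent.GolayF.f1.2]; decide +kernel)
  okl := by (rewrite [Cfsg.Agent.GolayF.f2.2]; decide +kernel)
  reach := reach_of_build gG_spec (st := s0) (by (rewrite [Cfsg.Agent.GolayF.f3.2]; decide +kernel))
  hv := by norm_num
  nodup := by decide +kernel
  len := by decide +kernel
  hb := by decide +kernel

theorem D1 : Dat 8388610 L1 8394986 where
  all := by (rewrite [Cfsg.Agent.GolayF.f1.2]; decide +kernel)
  okl := by (rewrite [Cfsg.Agent.GolayF.f2.2]; decide +kernel)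
  reach := reach_of_build gG_spec (st := s1) (by (rewrite [Cfsg.Agent.GolayF.f3.2]; decide +kernel))
  hv := by norm_num
  nodup := by decide +kernel
  len := by decide +kernel
  hb := by decide +kernel

theorem D2 : Dat 3 L2 5279 where
  all := by (rewrite [Cfsg.Agent.GolayF.f1.2]; decide +kernel)
  okl := by (rewrite [Cfsg.Agent.GolayF.f2.2]; decide +kernel)
  reach := reach_of_build gG_spec (st := s2) (by (rewrite [Cfsg.Agent.GolayF.f3.2]; decide +kernel))
  hv := by norm_num
  nodup := by decide +kernel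
  len := by decide +kernel
  hb := by decide +kernel

theorem cover_two {K : Subgroup M24} {gl : List ℕ} (hK : ∀ Q ∈ gl, ok Q = true ∧ el Q ∈ K) {l la lb : List ℕ}
    {a b : ℕ} {sa sb : List (ℕ × ℕ)} (ha : build gl a sa [a] = la) (hb : build gl b sb [b] = lb)
    (hl : (l.all fun m => la.any (fun x => Nat.beq x m) || lb.any (fun x => Nat.beq x m)) = true) :
    ∀ m ∈ l, ∃ i : Fin 2, Reach K (![a, b] i) m := by
  intro m hm
  have h := List.all_eq_true.1 hl m hm
  rw [Bool.or_eq_true] at h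
  rcases h with h | h
  · obtain ⟨x, hx, hx'⟩ := List.any_eq_true.1 h
    rw [← Nat.eq_of_beq_eq_true hx']
    exact ⟨0, reach_of_build hK ha x hx⟩
  · obtain ⟨x, hx, hx'⟩ := List.any_eq_true.1 h
    rw [← Nat.eq_of_beq_eq_true hx']
    exact ⟨1, reach_of_build hK hb x hx⟩

theorem cover_three {K : Subgroup M24} {gl : List ℕ} (hK : ∀ Q ∈ gl, ok Q = true ∧ el Q ∈ K) {l la lb : List ℕ}
    {a b c : ℕ} {sa sb : List (ℕ × ℕ)} (ha : build gl a sa [a] = la) (hb : build gl b sb [b] = lb)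
    (hl : (l.all fun m => la.any (fun x => Nat.beq x m) || lb.any (fun x => Nat.beq x m) || Nat.beq c m) = true) :
    ∀ m ∈ l, ∃ i : Fin 3, Reach K (![a, b, c] i) m := by
  intro m hm
  have h := List.all_eq_true.1 hl m hm
  rw [Bool.or_eq_true, Bool.or_eq_true] at h
  rcases h with (h | h) | h
  · obtain ⟨x, hx, hx'⟩ := List.any_eq_true.1 h
    rw [← Nat.eq_of_beq_eq_true hx']
    exact ⟨0, reach_of_build hK ha x hx⟩
  · obtain ⟨x, hx, hx'⟩ := List.any_eq_true.1 h
    rw [← Nat.eq_of_beq_eq_true hx']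
    exact ⟨1, reach_of_build hK hb x hx⟩
  · rw [← Nat.eq_of_beq_eq_true h]
    exact ⟨2, 1, K.one_mem, one_smul M24 _⟩

theorem rank00 : Nat.card (Quotient (orbitRel GG (X 8388609 × X 8388609))) ≤ 3 :=
  D0.rank_le D0 ![8412681, 8499969, 8391797] (by decide +kernel)
    (cover_three gA0_spec (sa := s00a) (sb := s00b) (la := L00a) (lb := L00b) (by (rewrite [Cfsg.Agent.GolayF.f3.2]; decide +kernel)) (by (rewrite [Cfsg.Agent.GolayF.f3.2]; decide +kernel))
      (by decide +kernel))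

theorem rank11 : Nat.card (Quotient (orbitRel GG (X 8388610 × X 8388610))) ≤ 3 :=
  D1.rank_le D1 ![8407702, 8611330, 8394986] (by decide +kernel)
    (cover_three gA1_spec (sa := s11a) (sb := s11b) (la := L11a) (lb := L11b) (by (rewrite [Cfsg.Agent.GolayF.f3.2]; decide +kernel)) (by (rewrite [Cfsg.Agent.GolayF.f3.2]; decide +kernel))
      (by decide +kernel))

theorem rank22 : Nat.card (Quotient (orbitRel GG (X 3 × X 3))) ≤ 3 :=
  D2.rank_le D2 ![18147, 352547, 5279] (by decide +kernel)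
    (cover_three gA2_spec (sa := s22a) (sb := s22b) (la := L22a) (lb := L22b) (by (rewrite [Cfsg.Agent.GolayF.f3.2]; decide +kernel)) (by (rewrite [Cfsg.Agent.GolayF.f3.2]; decide +kernel))
      (by decide +kernel))

theorem rank01 : Nat.card (Quotient (orbitRel GG (X 8388609 × X 8388610))) ≤ 2 :=
  D0.rank_le D1 ![8394986, 8474906] (by decide +kernel)
    (cover_two gA0_spec (sa := s01a) (sb := s01b) (la := L01a) (lb := L01b) (by (rewrite [Cfsg.Agent.GolayF.f3.2]; decide +kernel)) (by (rewrite [Cfsg.Agent.GolayF.f3.2]; decide +kernel))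
      (by decide +kernel))

theorem rank02 : Nat.card (Quotient (orbitRel GG (X 8388609 × X 3))) ≤ 2 :=
  D0.rank_le D2 ![5279, 57883] (by decide +kernel)
    (cover_two gA0_spec (sa := s02a) (sb := s02b) (la := L02a) (lb := L02b) (by (rewrite [Cfsg.Agent.GolayF.f3.2]; decide +kernel)) (by (rewrite [Cfsg.Agent.GolayF.f3.2]; decide +kernel))
      (by decide +kernel))

theorem rank12 : Nat.card (Quotient (orbitRel GG (X 8388610 × X 3))) ≤ 2 :=
  D1.rank_le D2 ![5279, 57883] (by decide +kernel)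
    (cover_two gA1_spec (sa := s12a) (sb := s12b) (la := L12a) (lb := L12b) (by (rewrite [Cfsg.Agent.GolayF.f3.2]; decide +kernel)) (by (rewrite [Cfsg.Agent.GolayF.f3.2]; decide +kernel))
      (by decide +kernel))

theorem inc0 : 2 ≤ Nat.card (Quotient (orbitRel GG (X 8388609 × P))) :=
  D0.two_le (p := some 2) (q := some 3) (by decide) (by decide) (mem_fin.2 (by decide +kernel))
    (fun h => absurd (mem_fin.1 h) (by decide +kernel))

theorem inc1 : 2 ≤ Nat.card (Quotient (orbitRel GG (X 8388610 × P))) :=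
  D1.two_le (p := some 3) (q := some 2) (by decide) (by decide) (mem_fin.2 (by decide +kernel))
    (fun h => absurd (mem_fin.1 h) (by decide +kernel))

theorem inc2 : 2 ≤ Nat.card (Quotient (orbitRel GG (X 3 × P))) :=
  D2.two_le (p := some 2) (q := some 5) (by decide) (by decide) (mem_fin.2 (by decide +kernel))
    (fun h => absurd (mem_fin.1 h) (by decide +kernel))

end Cfsg.Agent.H345.K4.PSL34
end

-- part: H345/K4/PSL34
section
/-!
# Five good characters of `PSL₃(4)` (helper345, for S4947 and S4547)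

In `M21` (the pointwise stabiliser of three points in `M24`) the octads through exactly two of the three points are three
orbits of length 56; the difference of the permutation characters on one of them and on the 21 points is an irreducible
character of degree 35 (`56 = 35 + 21`), and these three characters are different. With `1` : four good characters, three
of them of `7`-defect zero.
-/

set_option autoImplicit false

namespace Cfsg.Agent.H345.K4.PSL34

open Cfsg MulAction Cfsg.Agent.Characters.Core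
open Cfsg.Agent.S0157 (isCharacter_fixedBy avg_fixedBy card_fixedBy_prod)
open scoped ComplexConjugate

universe u

section

variable {G : Type*} [Group G]

/-- The permutation character. -/
noncomputable def pc (G : Type*) [Group G] (X : Type*) [MulAction G X] : G → ℂ :=
  fun g => (Nat.card (fixedBy X g) : ℂ)

theorem inner_pc [Fintype G] (A B : Type*) [MulAction G A] [MulAction G B] [Finite A] [Finite B] :
    classInner (pc G A) (pc G B) = (Nat.card (Quotient (orbitRel G (A × B))) : ℂ) := by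
  rw [classInner_def, ← avg_fixedBy (G := G) (A × B)]
  congr 1
  refine Finset.sum_congr rfl fun g _ => ?_
  rw [card_fixedBy_prod, pc, pc, Complex.conj_natCast]
  push_cast
  rfl

theorem pc_one (A : Type*) [MulAction G A] [Finite A] : pc G A 1 = (Nat.card A : ℂ) := by
  rw [pc, fixedBy_one_eq_univ, Nat.card_coe_set_eq, Set.ncard_univ]

theorem nonneg_self [Fintype G] (ψ : G → ℂ) {n : ℤ} (h : classInner ψ ψ = (n : ℂ)) (hψ : ψ ≠ 0) : 0 < n := by
  have h4 := classInner_self_eq_ofReal ψ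
  rw [h] at h4
  have h5 : (n : ℝ) = (Nat.card G : ℝ)⁻¹ * ∑ g : G, Complex.normSq (ψ g) := by exact_mod_cast h4
  have h6 : (0 : ℝ) ≤ (n : ℝ) := by
    rw [h5]
    exact mul_nonneg (by positivity) (Finset.sum_nonneg fun _ _ => Complex.normSq_nonneg _)
  have h7 : (0 : ℤ) ≤ n := by exact_mod_cast h6
  refine lt_of_le_of_ne h7 fun h8 => hψ ?_
  apply classInner_self_eq_zero
  rw [h, ← h8]
  norm_num

/-- The difference of two permutation characters of small ranks. -/
theorem exists_irr [Finite G] (A B : Type*) [MulAction G A] [MulAction G B] [Finite A] [Finite B]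
    (hAA : Nat.card (Quotient (orbitRel G (A × A))) ≤ 3) (hBB : Nat.card (Quotient (orbitRel G (B × B))) ≤ 2)
    (hAB : 2 ≤ Nat.card (Quotient (orbitRel G (A × B)))) {a b d : ℕ} (hA : Nat.card A = a) (hB : Nat.card B = b)
    (hd : a = b + d) (hd0 : 0 < d) :
    IsIrrCharacter G (pc G A - pc G B) ∧ Nat.card (Quotient (orbitRel G (A × B))) = 2 ∧
      Nat.card (Quotient (orbitRel G (B × B))) = 2 := by
  classical
  have := Fintype.ofFinite G
  have hBA : classInner (pc G B) (pc G A) = (Nat.card (Quotient (orbitRel G (A × B))) : ℂ) := by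
    rw [← classInner_conj_symm, inner_pc, Complex.conj_natCast]
  have hnorm : classInner (pc G A - pc G B) (pc G A - pc G B) = (((Nat.card (Quotient (orbitRel G (A × A))) : ℤ) -
      2 * (Nat.card (Quotient (orbitRel G (A × B))) : ℤ) + (Nat.card (Quotient (orbitRel G (B × B))) : ℤ) : ℤ) : ℂ) := by
    simp only [classInner_sub_left, classInner_sub_right]
    rw [hBA, inner_pc, inner_pc, inner_pc]
    push_cast
    ring
  have hval : (pc G A - pc G B) 1 = (d : ℂ) := by
    rw [Pi.sub_apply, pc_one, pc_one, hA, hB, hd]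
    push_cast
    ring
  have h0 := nonneg_self _ hnorm (by
    intro h
    rw [h, Pi.zero_apply] at hval
    have h1 : (0 : ℕ) = d := by exact_mod_cast hval
    omega)
  have h1 : (Nat.card (Quotient (orbitRel G (A × A))) : ℤ) -
      2 * (Nat.card (Quotient (orbitRel G (A × B))) : ℤ) + (Nat.card (Quotient (orbitRel G (B × B))) : ℤ) = 1 := by
    omega
  refine ⟨?_, by omega, by omega⟩
  rw [h1] at hnorm
  have hgen : IsGeneralizedCharacter G (pc G A - pc G B) := by
    rw [isGeneralizedCharacter_def]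
    exact ⟨_, _, isCharacter_fixedBy A, isCharacter_fixedBy B, rfl⟩
  rcases isIrr_of_generalized hgen (by rw [hnorm]; norm_num) with h | h
  · exact h
  · exfalso
    obtain ⟨n, hn, hn'⟩ := isIrr_apply_one h
    rw [Pi.neg_apply, hval] at hn'
    have h4 : ((n + d : ℕ) : ℂ) = ((0 : ℕ) : ℂ) := by
      push_cast
      rw [← hn']
      ring
    have h5 : n + d = 0 := by exact_mod_cast h4
    omega

/-- Two such differences are different. -/
theorem ne_of_rank [Finite G] (A A' B : Type*) [MulAction G A] [MulAction G A'] [MulAction G B] [Finite A] [Finite A']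
    [Finite B] (hi : IsIrrCharacter G (pc G A - pc G B)) (h : Nat.card (Quotient (orbitRel G (A × A'))) ≤ 2)
    (hAB : Nat.card (Quotient (orbitRel G (A × B))) = 2) (hA'B : Nat.card (Quotient (orbitRel G (A' × B))) = 2)
    (hBB : Nat.card (Quotient (orbitRel G (B × B))) = 2) : pc G A - pc G B ≠ pc G A' - pc G B := by
  classical
  have := Fintype.ofFinite G
  intro heq
  have h1 : classInner (pc G A - pc G B) (pc G A' - pc G B) = 1 := by rw [← heq, classInner_irr_self hi]
  have hBA : classInner (pc G B) (pc G A') = (Nat.card (Quotient (orbitRel G (A' × B))) : ℂ) := by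
    rw [← classInner_conj_symm, inner_pc, Complex.conj_natCast]
  simp only [classInner_sub_left, classInner_sub_right] at h1
  rw [hBA, inner_pc, inner_pc, inner_pc, hAB, hA'B, hBB] at h1
  have h2 : ((Nat.card (Quotient (orbitRel G (A × A'))) : ℕ) : ℂ) = ((3 : ℕ) : ℂ) := by
    push_cast at h1 ⊢
    linear_combination h1
  have h3 : Nat.card (Quotient (orbitRel G (A × A'))) = 3 := by exact_mod_cast h2
  omega

theorem pc_rat (A B : Type*) [MulAction G A] [MulAction G B] (g : G) : ∃ q : ℚ, (pc G A - pc G B) g = q :=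
  ⟨(Nat.card (fixedBy A g) : ℚ) - (Nat.card (fixedBy B g) : ℚ), by
    rw [Pi.sub_apply, pc, pc]
    push_cast
    rfl⟩

end

theorem card_GG : Nat.card GG = 20160 := by
  have h := Cfsg.Agent.S0380.card_fixing (s := ({none, some 0, some 1} : Set GolayPt))
    (Cfsg.Agent.S0380.ncard_triple (by decide) (by decide) (by decide))
  rwa [Cfsg.Agent.S0380.fixingSubgroup_triple] at h

theorem good5_model : H601.K4.Good5 GG := by
  classical
  have hc := card_GG
  have hfin : Finite GG := Nat.finite_of_card_ne_zero (by rw [hc]; norm_num)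
  have := Fintype.ofFinite GG
  obtain ⟨i0, n0, nP⟩ := exists_irr (X 8388609) P rank00 rank_P inc0 D0.card card_P (d := 35) (by norm_num) (by norm_num)
  obtain ⟨i1, n1, -⟩ := exists_irr (X 8388610) P rank11 rank_P inc1 D1.card card_P (d := 35) (by norm_num) (by norm_num)
  obtain ⟨i2, n2, -⟩ := exists_irr (X 3) P rank22 rank_P inc2 D2.card card_P (d := 35) (by norm_num) (by norm_num)
  have d0 : (pc GG (X 8388609) - pc GG P) 1 = ((35 : ℕ) : ℂ) := by
    rw [Pi.sub_apply, pc_one, pc_one, D0.card, card_P]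
    norm_num
  have d1 : (pc GG (X 8388610) - pc GG P) 1 = ((35 : ℕ) : ℂ) := by
    rw [Pi.sub_apply, pc_one, pc_one, D1.card, card_P]
    norm_num
  have d2 : (pc GG (X 3) - pc GG P) 1 = ((35 : ℕ) : ℂ) := by
    rw [Pi.sub_apply, pc_one, pc_one, D2.card, card_P]
    norm_num
  have G0 : H601.K4.Good (pc GG (X 8388609) - pc GG P) := H740.K4.good_of_rat i0 (pc_rat _ _)
    (by rw [Cfsg.Agent.Blocks.Basic.charDegree_of_eq d0]; decide)
  have G1 : H601.K4.Good (pc GG (X 8388610) - pc GG P) := H740.K4.good_of_rat i1 (pc_rat _ _)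
    (by rw [Cfsg.Agent.Blocks.Basic.charDegree_of_eq d1]; decide)
  have G2 : H601.K4.Good (pc GG (X 3) - pc GG P) := H740.K4.good_of_rat i2 (pc_rat _ _)
    (by rw [Cfsg.Agent.Blocks.Basic.charDegree_of_eq d2]; decide)
  have f01 := ne_of_rank (X 8388609) (X 8388610) P i0 rank01 n0 n1 nP
  have f02 := ne_of_rank (X 8388609) (X 3) P i0 rank02 n0 n2 nP
  have f12 := ne_of_rank (X 8388610) (X 3) P i1 rank12 n1 n2 nP
  have hne : ∀ {χ : GG → ℂ}, χ 1 = ((35 : ℕ) : ℂ) → (fun _ : GG => (1 : ℂ)) ≠ χ := by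
    rintro χ h rfl
    have h1 : ((1 : ℕ) : ℂ) = ((35 : ℕ) : ℂ) := by rw [← h, Nat.cast_one]
    have h2 : (1 : ℕ) = 35 := by exact_mod_cast h1
    omega
  have : Fact (Nat.Prime 7) := ⟨by norm_num⟩
  obtain ⟨t, ht⟩ := exists_prime_orderOf_dvd_card' (G := GG) 7 (by rw [hc]; norm_num)
  have hzero : ∀ χ : GG → ℂ, IsIrrCharacter GG χ → χ 1 = ((35 : ℕ) : ℂ) → χ t = 0 := by
    intro χ hχ hd
    exact H740.K4.zero_of_dvd (p := 7) (n := 1) (by norm_num) (by rw [hc]; norm_num) (by rw [hc]; norm_num) hχ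
      hd (by norm_num) (by rw [ht])
  have g0 := hne d0
  have g1 := hne d1
  have g2 := hne d2
  refine H740.K4.good5_of_four (by rw [hc]; decide)
    (χ := ![fun _ => 1, pc GG (X 8388609) - pc GG P, pc GG (X 8388610) - pc GG P, pc GG (X 3) - pc GG P]) ?_ ?_ (t := t)
    (by rw [ht]; decide) (z := ![1, 0, 0, 0]) ?_ ?_
  · intro i j hij
    fin_cases i <;> fin_cases j <;> first
      | rfl
      | exact absurd hij g0
      | exact absurd hij g1
      | exact absurd hij g2
      | exact absurd hij f01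
      | exact absurd hij f02
      | exact absurd hij f12
      | exact absurd hij g0.symm
      | exact absurd hij g1.symm
      | exact absurd hij g2.symm
      | exact absurd hij f01.symm
      | exact absurd hij f02.symm
      | exact absurd hij f12.symm
  · intro i
    fin_cases i
    · exact H740.K4.good_one'
    · exact G0
    · exact G1
    · exact G2
  · intro i
    fin_cases i
    · show (1 : ℂ) = ((1 : ℤ) : ℂ)
      norm_num
    · show (pc GG (X 8388609) - pc GG P) t = ((0 : ℤ) : ℂ)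
      rw [hzero _ i0 d0]
      norm_num
    · show (pc GG (X 8388610) - pc GG P) t = ((0 : ℤ) : ℂ)
      rw [hzero _ i1 d1]
      norm_num
    · show (pc GG (X 3) - pc GG P) t = ((0 : ℤ) : ℂ)
      rw [hzero _ i2 d2]
      norm_num
  · decide

/-- **Five good characters of `PSL₃(4)`.** -/
theorem good5_psl34 {S : Type u} [Group S] [Finite S] (F : Type) [Field F] [Fintype F] (hF : Fintype.card F = 4)
    (e : S ≃* Matrix.ProjectiveSpecialLinearGroup (Fin 3) F) : H601.K4.Good5 S := by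
  obtain ⟨e'⟩ := Cfsg.Agent.S0380.result none (some 0) (some 1) (by decide) (by decide) (by decide) F hF
  exact H740.K4.good5_of_equiv (e.trans e'.symm) good5_model

end Cfsg.Agent.H345.K4.PSL34
end

-- part: H967/K4/Final
section
/-!
# Five good characters of the groups of Lie type of characteristic two (TEAM K4; assembly helper967)

* `good_lie_two` : every simple group of Lie type of characteristic two other than `PSL(2, 4)` and `PSL(3, 2)`.
-/

set_option autoImplicit false

open Cfsg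

namespace Cfsg.Agent.H967.K4

open Cfsg.Agent.H601.K4

universe u

theorem card_two_pow (F : Type*) [Field F] [Fintype F] [CharP F 2] : ∃ k : ℕ, Fintype.card F = 2 ^ k := by
  obtain ⟨k, -, hk⟩ := FiniteField.card F 2
  exact ⟨k, hk⟩

theorem card_cases (F : Type*) [Field F] [Fintype F] [CharP F 2] :
    Fintype.card F = 2 ∨ Fintype.card F = 4 ∨ 8 ≤ Fintype.card F := by
  obtain ⟨k, hk⟩ := card_two_pow F
  have h1 : 1 < Fintype.card F := Fintype.one_lt_card
  rcases k with _ | _ | _ | k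
  · rw [hk] at h1
    norm_num at h1
  · exact Or.inl (by rw [hk]; norm_num)
  · exact Or.inr (Or.inl (by rw [hk]; norm_num))
  · refine Or.inr (Or.inr ?_)
    rw [hk]
    have : 1 ≤ 2 ^ k := Nat.one_le_two_pow
    calc 8 = 2 ^ 3 * 1 := by norm_num
      _ ≤ 2 ^ 3 * 2 ^ k := Nat.mul_le_mul_left _ this
      _ = 2 ^ (k + 1 + 1 + 1) := by ring

/-- **The simple groups of Lie type of characteristic two.** -/
theorem good_lie_two
    {S : Type u} [Group S] [Finite S] [IsSimpleGroup S] (hS : IsLieTypeChar 2 S) :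
    Good5 S ∨
      (∃ (F : Type) (_ : Field F) (_ : Fintype F) (_ : CharP F 2), Fintype.card F = 4 ∧
        Nonempty (S ≃* Matrix.ProjectiveSpecialLinearGroup (Fin 2) F)) ∨
      ∃ (F : Type) (_ : Field F) (_ : Fintype F) (_ : CharP F 2), Fintype.card F = 2 ∧
        Nonempty (S ≃* Matrix.ProjectiveSpecialLinearGroup (Fin 3) F) := by
  have hT := H742.TwoC.twoC_charTwo hS
  rcases lie_two hS with h | h
  · exact Or.inl h
  rcases h with ⟨hn, h4, e⟩ | ⟨hm, h3, e⟩ | ⟨hF, hn, hn7, h32, e⟩ | ⟨hab, e⟩ | ⟨h3, e⟩ | ⟨hq, hK, e⟩ | h | h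
  · rename_i F _ _ _ n
    rcases hn with rfl | rfl
    · rcases card_cases F with h2 | h2 | h2
      · exact absurd (h4 rfl) (by omega)
      · exact Or.inr (Or.inl ⟨F, inferInstance, inferInstance, inferInstance, h2, ⟨e⟩⟩)
      · exact Or.inl (H740.K4.good5_of_equiv e (H507.K4.good5_psl2 F h2))
    · rcases card_cases F with h2 | h2 | h2
      · exact Or.inr (Or.inr ⟨F, inferInstance, inferInstance, inferInstance, h2, ⟨e⟩⟩)
      · exact Or.inl (H345.K4.PSL34.good5_psl34 F h2 e)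
      · exact Or.inl (H507.K4.good5_psl3 F h2 e)
  · rcases hm with rfl | rfl
    · exact Or.inl (H687.FourK.row_PSp4 hS (h3 rfl) e)
    · exact Or.inl (H726.Four.good5_psp_three e hT)
  · rename_i F _ _ _ n q
    left
    have hsim : IsSimpleGroup (PSU n F q) := e.symm.isSimpleGroup
    have hfin : Finite (PSU n F q) := Finite.of_equiv S e.toEquiv
    have hq2 : 2 ≤ q := by
      have h1 : 1 < Fintype.card F := Fintype.one_lt_card
      rw [hF] at h1
      by_contra hcon
      have : q = 0 ∨ q = 1 := by omega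
      rcases this with rfl | rfl <;> norm_num at h1
    obtain rfl | rfl | rfl | rfl | rfl : n = 3 ∨ n = 4 ∨ n = 5 ∨ n = 6 ∨ n = 7 := by omega
    · exact H740.K4.good5_of_equiv e (H612.K4.good5_psu3 hF (by omega))
    · rcases Nat.lt_or_ge q 3 with h3 | h3
      · obtain rfl : q = 2 := by omega
        exact H151.K4.PSU45.good5_psu4_two (by rw [hF]; norm_num) e
      · exact H740.K4.good5_of_equiv e (H151.K4.PSU45.good5_psu4 hF h3 (hT.congr e))
    · exact H740.K4.good5_of_equiv e (H151.K4.PSU45.good5_psu5 hF (hT.congr e))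
    · exact H726.Four.good5_psu_six hF e hT
    · exact H726.Four.good5_psu_seven hF e hT
  · exact Or.inl (H740.K4.good5_of_equiv e (good5_om8 hab (hT.congr e)))
  · exact Or.inl (H687.FourK.row_G2 hS h3 e)
  · exact Or.inl (H687.FourK.row_3D4 hS hq hK e)
  · exact Or.inl (H612.K4.good5_suzuki h)
  · exact Or.inl (H151.K4.TwF4.good5 h hT)

end Cfsg.Agent.H967.K4
end

private theorem dce_a1adb0d32da5 : _root_.True := by
  try have : _root_.True := by simp only [_root_.Cfsg.Agent.H345.K4.PSL34.pc.eq_1]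
  exact _root_.True.intro
end

-- part: H293/F23B/Dist
section
set_option linter.all false
open scoped Cfsg.Agent.FastGrp

/-!
# Invariants of the sixteen double cosets; the generators
-/

set_option autoImplicit false
set_option maxRecDepth 100000

namespace Cfsg.Agent.H293.F23B

open Cfsg.Agent.Fischer Cfsg.Agent.Lib.PermNet Cfsg.Agent.Lib.PermNetOrbit Cfsg.Agent.Fischer.Fi23Nets
  Cfsg.Agent.Fischer.Fi23Rel Cfsg.Agent.Fischer.Fi23Hom Cfsg.Agent.Fischer.Fi23Orb Cfsg.Agent.Fischer.Fi23OrbData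
  Cfsg.Agent.Fischer.Fi23Z Cfsg.Agent.Fischer.Fi23Final Cfsg.Agent.Fischer.Fi23Simple
open Cfsg.Spor Cfsg.Spor.Fi23

/-- the invariants -/
def cc : Fin 16 → ℕ × ℕ := ![(23, 0), (7, 16), (3, 20), (2, 21), (1, 14), (1, 16), (0, 9), (0, 11), (0, 15), (1, 6), (0, 7), (1, 0), (0, 5), (0, 1), (0, 1), (0, 3)]

/-- check of an invariant -/
noncomputable def chkInv (U : ℕ) (l : List Lt) (m : ℕ) : Bool :=
  seqB (Nat.land (mv B0 l) U) fun Q => and (Nat.beq (Nat.shiftRight Q (Nat.pow 2 (15 : ℕ))) 0) (Nat.beq (pc 15 Q) m)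

theorem inv_of_chk {U : ℕ} {l : List Lt} {m : ℕ} (h : chkInv U l m = true) : inv U (W l) = m := by
  unfold chkInv at h
  rw [seqB_eq, Bool.and_eq_true] at h
  exact inv_W h.1 h.2

theorem ia_0 : chkInv B0 (gam 0) (cc 0).1 = true := by decide +kernel
theorem ib_0 : chkInv T7 (gam 0) (cc 0).2 = true := by decide +kernel
theorem ia_1 : chkInv B0 (gam 1) (cc 1).1 = true := by decide +kernel
theorem ib_1 : chkInv T7 (gam 1) (cc 1).2 = true := by decide +kernel
theorem ia_2 : chkInv B0 (gam 2) (cc 2).1 = true := by decide +kernel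
theorem ib_2 : chkInv T7 (gam 2) (cc 2).2 = true := by decide +kernel
theorem ia_3 : chkInv B0 (gam 3) (cc 3).1 = true := by decide +kernel
theorem ib_3 : chkInv T7 (gam 3) (cc 3).2 = true := by decide +kernel
theorem ia_4 : chkInv B0 (gam 4) (cc 4).1 = true := by decide +kernel
theorem ib_4 : chkInv T7 (gam 4) (cc 4).2 = true := by decide +kernel
theorem ia_5 : chkInv B0 (gam 5) (cc 5).1 = true := by decide +kernel
theorem ib_5 : chkInv T7 (gam 5) (cc 5).2 = true := by decide +kernel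
theorem ia_6 : chkInv B0 (gam 6) (cc 6).1 = true := by decide +kernel
theorem ib_6 : chkInv T7 (gam 6) (cc 6).2 = true := by decide +kernel
theorem ia_7 : chkInv B0 (gam 7) (cc 7).1 = true := by decide +kernel
theorem ib_7 : chkInv T7 (gam 7) (cc 7).2 = true := by decide +kernel
theorem ia_8 : chkInv B0 (gam 8) (cc 8).1 = true := by decide +kernel
theorem ib_8 : chkInv T7 (gam 8) (cc 8).2 = true := by decide +kernel
theorem ia_9 : chkInv B0 (gam 9) (cc 9).1 = true := by decide +kernel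
theorem ib_9 : chkInv T7 (gam 9) (cc 9).2 = true := by decide +kernel
theorem ia_10 : chkInv B0 (gam 10) (cc 10).1 = true := by decide +kernel
theorem ib_10 : chkInv T7 (gam 10) (cc 10).2 = true := by decide +kernel
theorem ia_11 : chkInv B0 (gam 11) (cc 11).1 = true := by decide +kernel
theorem ib_11 : chkInv T7 (gam 11) (cc 11).2 = true := by decide +kernel
theorem ia_12 : chkInv B0 (gam 12) (cc 12).1 = true := by decide +kernel
theorem ib_12 : chkInv T7 (gam 12) (cc 12).2 = true := by decide +kernel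
theorem ia_13 : chkInv B0 (gam 13) (cc 13).1 = true := by decide +kernel
theorem ib_13 : chkInv T7 (gam 13) (cc 13).2 = true := by decide +kernel
theorem ia_14 : chkInv B0 (gam 14) (cc 14).1 = true := by decide +kernel
theorem ib_14 : chkInv T7 (gam 14) (cc 14).2 = true := by decide +kernel
theorem ia_15 : chkInv B0 (gam 15) (cc 15).1 = true := by decide +kernel
theorem ib_15 : chkInv T7 (gam 15) (cc 15).2 = true := by decide +kernel

theorem invs (i : Fin 16) : inv B0 (W (gam i)) = (cc i).1 ∧ inv T7 (W (gam i)) = (cc i).2 := by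
  fin_cases i
  · exact ⟨inv_of_chk ia_0, inv_of_chk ib_0⟩
  · exact ⟨inv_of_chk ia_1, inv_of_chk ib_1⟩
  · exact ⟨inv_of_chk ia_2, inv_of_chk ib_2⟩
  · exact ⟨inv_of_chk ia_3, inv_of_chk ib_3⟩
  · exact ⟨inv_of_chk ia_4, inv_of_chk ib_4⟩
  · exact ⟨inv_of_chk ia_5, inv_of_chk ib_5⟩
  · exact ⟨inv_of_chk ia_6, inv_of_chk ib_6⟩
  · exact ⟨inv_of_chk ia_7, inv_of_chk ib_7⟩
  · exact ⟨inv_of_chk ia_8, inv_of_chk ib_8⟩
  · exact ⟨inv_of_chk ia_9, inv_of_chk ib_9⟩
  · exact ⟨inv_of_chk ia_10, inv_of_chk ib_10⟩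
  · exact ⟨inv_of_chk ia_11, inv_of_chk ib_11⟩
  · exact ⟨inv_of_chk ia_12, inv_of_chk ib_12⟩
  · exact ⟨inv_of_chk ia_13, inv_of_chk ib_13⟩
  · exact ⟨inv_of_chk ia_14, inv_of_chk ib_14⟩
  · exact ⟨inv_of_chk ia_15, inv_of_chk ib_15⟩

theorem Rel.inv {x g : Fi23} (h : Rel x g) : F23B.inv B0 x = F23B.inv B0 g ∧ F23B.inv T7 x = F23B.inv T7 g := by
  obtain ⟨a, ha, k, hk, rfl⟩ := h
  exact ⟨inv_mul ha hk, inv_mul (Hs_stT7 ha) hk⟩

theorem Rel.symm {x g : Fi23} (h : Rel x g) : Rel g x := by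
  obtain ⟨a, ha, k, hk, rfl⟩ := h
  exact ⟨a⁻¹, Hs.inv_mem ha, k⁻¹, Hs.inv_mem hk, by group⟩

theorem Rel.trans {x y g : Fi23} (h : Rel x y) (h' : Rel y g) : Rel x g := by
  obtain ⟨a, ha, k, hk, rfl⟩ := h
  obtain ⟨b, hb, l, hl, rfl⟩ := h'
  exact ⟨a * b, Hs.mul_mem ha hb, l * k, Hs.mul_mem hl hk, by group⟩

theorem Rel.refl (x : Fi23) : Rel x x := ⟨1, Hs.one_mem, 1, Hs.one_mem, by group⟩

theorem cc_of_rel {x : Fi23} {i j : Fin 16} (h : Rel x (W (gam i))) (h' : Rel x (W (gam j))) : cc i = cc j := by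
  have h1 := h.inv
  have h2 := h'.inv
  have h3 := invs i
  have h4 := invs j
  exact Prod.ext (by rw [← h3.1, ← h4.1, ← h1.1, ← h2.1]) (by rw [← h3.2, ← h4.2, ← h1.2, ← h2.2])

theorem cc_inj : ∀ i j : Fin 16, cc i = cc j → i = j ∨ (i = 13 ∧ j = 14) ∨ (i = 14 ∧ j = 13) := by decide +kernel

/-! ### The generators -/

theorem g_a : closedB [[nt .a]] B0 = true := by decide +kernel
theorem g_c : closedB [[nt .c]] B0 = true := by decide +kernel
theorem g_e : closedB [[nt .e]] B0 = true := by decide +kernel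
theorem g_i : closedB [[nt .i]] B0 = true := by decide +kernel
theorem g_j : closedB [[nt .j]] B0 = true := by decide +kernel
theorem g_b : checkEq 15 [nt .b] ((([.t7, .t6, .t1] : List Lt) ++ (.z :: ([.t7, .t6, .t1] : List Lt).reverse) : List Lt).map nt) = true := by decide +kernel
theorem g_d : checkEq 15 [nt .d] ((([.t4, .t2, .t0, .t1] : List Lt) ++ (.z :: ([.t4, .t2, .t0, .t1] : List Lt).reverse) : List Lt).map nt) = true := by decide +kernel
theorem g_f : checkEq 15 [nt .f] ((([.t6, .t0, .t1, .t3] : List Lt) ++ (.z :: ([.t6, .t0, .t1, .t3] : List Lt).reverse) : List Lt).map nt) = true := by decide +kernel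
theorem g_g : checkEq 15 [nt .g] ((([.t3] : List Lt) ++ (.z :: ([.t3] : List Lt).reverse) : List Lt).map nt) = true := by decide +kernel
theorem g_h : checkEq 15 [nt .h] ((([.t4, .t6, .t1] : List Lt) ++ (.z :: ([.t4, .t6, .t1] : List Lt).reverse) : List Lt).map nt) = true := by decide +kernel

theorem mem_of_closed {x : Lt} (h : closedB [[nt x]] B0 = true) : el x ∈ Hs := by
  intro p
  have h1 := closedB_spec (N := 2 ^ 15) (ws := [[nt x]]) (by
    intro w hw
    rw [List.mem_singleton.1 hw]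
    exact wok [x]) h [nt x] (List.mem_singleton.2 rfl) p
  rw [wperm_cons, wperm_nil, mul_one, ← rho_el] at h1
  exact h1

theorem conj_of_check {x : Lt} {l : List Lt} (hl : allT l = true)
    (h : checkEq 15 [nt x] ((l ++ (.z :: l.reverse) : List Lt).map nt) = true) :
    ∃ v ∈ Hs, el x = v * z0 * v⁻¹ := by
  refine ⟨W l, W_allT hl, ?_⟩
  apply Fi23Simple.rho_injective
  have h1 := wperm_eq_of_checkEq (wok [x]) (wok _) h
  rw [← rho_W, ← rho_W, W_append, W_cons, W_cons, W_nil, W_reverse, el_z, mul_one, ← mul_assoc] at h1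
  exact h1

theorem el_gen (x : Gen) : ∃ y : Lt, el y = gen x ∧ (el y ∈ Hs ∨ ∃ v ∈ Hs, el y = v * z0 * v⁻¹) := by
  cases x
  · exact ⟨.a, by simp [el, tw, el0], Or.inl (mem_of_closed g_a)⟩
  · exact ⟨.b, by simp [el, tw, el0], Or.inr (conj_of_check rfl g_b)⟩
  · exact ⟨.c, by simp [el, tw, el0], Or.inl (mem_of_closed g_c)⟩
  · exact ⟨.d, by simp [el, tw, el0], Or.inr (conj_of_check rfl g_d)⟩
  · exact ⟨.e, by simp [el, tw, el0], Or.inl (mem_of_closed g_e)⟩
  · exact ⟨.f, by simp [el, tw, el0], Or.inr (conj_of_check rfl g_f)⟩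
  · exact ⟨.g, by simp [el, tw, el0], Or.inr (conj_of_check rfl g_g)⟩
  · exact ⟨.j, by simp [el, tw, el0], Or.inl (mem_of_closed g_j)⟩
  · exact ⟨.h, by simp [el, tw, el0], Or.inr (conj_of_check rfl g_h)⟩
  · exact ⟨.i, by simp [el, tw, el0], Or.inl (mem_of_closed g_i)⟩

end Cfsg.Agent.H293.F23B
end

-- part: H293/F23B/Col
section
set_option linter.all false
open scoped Cfsg.Agent.FastGrp

/-!
# The sixteen double cosets of the stabiliser of a base in `Fi23` and two rational characters of odd degree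
-/

set_option autoImplicit false

namespace Cfsg.Agent.H293.F23B

open Cfsg Cfsg.Agent.Fischer Cfsg.Agent.Fischer.Fi23Hom Cfsg.Agent.Fischer.Fi23Z
open Cfsg.Spor Cfsg.Spor.Fi23

open Classical in
/-- the points commuting with seven points of the base -/
noncomputable def TT : Finset ℕ := (Finset.range 31671).filter fun p => T7.testBit p = true

theorem mem_TT {p : ℕ} : p ∈ TT ↔ T7.testBit p = true := by
  unfold TT
  rw [Finset.mem_filter, Finset.mem_range]
  exact ⟨fun h => h.2, fun h => ⟨T7_lt' h, h⟩⟩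

theorem card_TT : TT.card = 8096 := by
  rw [← Set.ncard_coe_finset, ← Lib.PermNetOrbit.ncard_testBit T7_lt T7_pc]
  congr 1
  ext p
  rw [Finset.mem_coe, mem_TT]
  rfl

open Classical in
/-- the points `p` with `x * zt p` in the double coset of `g` -/
noncomputable def AA (x g : Fi23) : Finset ℕ := TT.filter fun p => Rel (x * zt p) g

theorem mem_AA {x g : Fi23} {p : ℕ} : p ∈ AA x g ↔ T7.testBit p = true ∧ Rel (x * zt p) g := by
  classical
  simp only [AA, Finset.mem_filter, mem_TT]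

theorem le_AA (i j : Fin 16) : Mx i j ≤ (AA (W (gam i)) (W (gam j))).card := by
  have h := blk_spec (gns_all i) (b_all i j)
  rw [← Set.ncard_coe_finset]
  refine h.trans (le_of_eq ?_)
  congr 1
  ext p
  rw [Finset.mem_coe, mem_AA]
  rfl

theorem AA_congr {x y g : Fi23} (h : Rel x y) : (AA x g).card = (AA y g).card := by
  obtain ⟨a, ha, k, hk, rfl⟩ := h
  have e : ∀ p, T7.testBit p = true → a * y * k * zt p = a * (y * zt (rho k p)) * k := by
    intro p hp
    rw [zt_conj k (T7_lt' hp)]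
    group
  have hr : ∀ p, T7.testBit p = true → (Rel (a * y * k * zt p) g ↔ Rel (y * zt (rho k p)) g) := by
    intro p hp
    rw [e p hp]
    have h1 : Rel (a * (y * zt (rho k p)) * k) (y * zt (rho k p)) := ⟨a, ha, k, hk, rfl⟩
    exact ⟨fun h => h1.symm.trans h, fun h => h1.trans h⟩
  refine Finset.card_bij (fun p _ => rho k p) ?_ ?_ ?_
  · intro p hp
    rw [mem_AA] at hp ⊢
    exact ⟨Hs_le_T7 hk hp.1, (hr p hp.1).1 hp.2⟩
  · intro p _ q _ h
    exact (rho k).injective h
  · intro q hq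
    rw [mem_AA] at hq
    have h2 : rho k (rho k⁻¹ q) = q := by
      rw [← Equiv.Perm.mul_apply, ← map_mul, mul_inv_cancel, map_one]; rfl
    have h1 := Hs_le_T7 (Hs.inv_mem hk) hq.1
    refine ⟨rho k⁻¹ q, ?_, h2⟩
    rw [mem_AA]
    refine ⟨h1, (hr _ h1).2 ?_⟩
    rw [h2]
    exact hq.2

theorem AA_disj {x : Fi23} {i j : Fin 16} (h : cc i ≠ cc j) : Disjoint (AA x (W (gam i))) (AA x (W (gam j))) := by
  rw [Finset.disjoint_left]
  intro p hp hp'
  rw [mem_AA] at hp hp'
  exact h (cc_of_rel hp.2 hp'.2)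

theorem sum_AA_le (x : Fi23) (S : Finset (Fin 16)) (hS : ∀ i ∈ S, ∀ j ∈ S, i ≠ j → cc i ≠ cc j) :
    ∑ j ∈ S, (AA x (W (gam j))).card ≤ 8096 := by
  rw [← card_TT, ← Finset.card_biUnion fun i hi j hj hij => AA_disj (hS i hi j hj hij)]
  apply Finset.card_le_card
  intro p hp
  rw [Finset.mem_biUnion] at hp
  obtain ⟨j, -, hj⟩ := hp
  exact mem_TT.2 (mem_AA.1 hj).1

theorem ne_13_14 : ¬ Rel (W (gam 13)) (W (gam 14)) := by
  intro h
  have h1 := sum_AA_le (W (gam 13)) {6, 7, 10, 11, 12, 14, 15} (by decide +kernel)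
  have h2 : ∑ j ∈ ({6, 7, 10, 11, 12, 14, 15} : Finset (Fin 16)), (AA (W (gam 13)) (W (gam j))).card =
      (AA (W (gam 13)) (W (gam 6))).card + ((AA (W (gam 13)) (W (gam 7))).card +
      ((AA (W (gam 13)) (W (gam 10))).card + ((AA (W (gam 13)) (W (gam 11))).card +
      ((AA (W (gam 13)) (W (gam 12))).card + ((AA (W (gam 13)) (W (gam 14))).card +
      (AA (W (gam 13)) (W (gam 15))).card))))) := by
    rw [Finset.sum_insert (by decide), Finset.sum_insert (by decide), Finset.sum_insert (by decide),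
      Finset.sum_insert (by decide), Finset.sum_insert (by decide), Finset.sum_insert (by decide),
      Finset.sum_singleton]
  rw [h2, AA_congr (g := W (gam 6)) h] at h1
  have h3 := le_AA 14 6
  have h4 := le_AA 13 7
  have h5 := le_AA 13 10
  have h6 := le_AA 13 11
  have h7 := le_AA 13 12
  have h8 := le_AA 13 14
  have h9 := le_AA 13 15
  have e : Mx 14 6 + (Mx 13 7 + (Mx 13 10 + (Mx 13 11 + (Mx 13 12 + (Mx 13 14 + Mx 13 15))))) = 9040 := by
    decide +kernel
  omega

theorem rel_inj {i j : Fin 16} (h : Rel (W (gam i)) (W (gam j))) : i = j := by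
  rcases cc_inj i j (cc_of_rel (Rel.refl _) h) with h1 | ⟨rfl, rfl⟩ | ⟨rfl, rfl⟩
  · exact h1
  · exact absurd h ne_13_14
  · exact absurd h.symm ne_13_14

theorem AA_disj' {x : Fi23} {i j : Fin 16} (h : i ≠ j) : Disjoint (AA x (W (gam i))) (AA x (W (gam j))) := by
  rw [Finset.disjoint_left]
  intro p hp hp'
  rw [mem_AA] at hp hp'
  exact h (rel_inj (hp.2.symm.trans hp'.2))

theorem biUnion_AA (i : Fin 16) : (Finset.univ.biUnion fun j => AA (W (gam i)) (W (gam j))) = TT ∧
    ∀ j, (AA (W (gam i)) (W (gam j))).card = Mx i j := by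
  have hsub : (Finset.univ.biUnion fun j => AA (W (gam i)) (W (gam j))) ⊆ TT := by
    intro p hp
    rw [Finset.mem_biUnion] at hp
    obtain ⟨j, -, hj⟩ := hp
    exact mem_TT.2 (mem_AA.1 hj).1
  have hcard : (Finset.univ.biUnion fun j => AA (W (gam i)) (W (gam j))).card =
      ∑ j, (AA (W (gam i)) (W (gam j))).card :=
    Finset.card_biUnion fun a _ b _ hab => AA_disj' hab
  have h1 := Finset.card_le_card hsub
  rw [hcard, card_TT] at h1
  have h2 : ∑ j, Mx i j ≤ ∑ j, (AA (W (gam i)) (W (gam j))).card := Finset.sum_le_sum fun j _ => le_AA i j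
  have h3 := row_sum i
  have h4 : ∑ j, Mx i j = ∑ j, (AA (W (gam i)) (W (gam j))).card := by omega
  refine ⟨Finset.eq_of_subset_of_card_le hsub ?_, fun j => ?_⟩
  · rw [hcard, card_TT, ← h4, h3]
  · exact ((Finset.sum_eq_sum_iff_of_le fun j _ => le_AA i j).1 h4 j (Finset.mem_univ _)).symm

/-- every neighbour of a representative lies in one of the double cosets -/
theorem exists_rel (i : Fin 16) {p : ℕ} (hp : T7.testBit p = true) : ∃ j, Rel (W (gam i) * zt p) (W (gam j)) := by
  have h := mem_TT.2 hp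
  rw [← (biUnion_AA i).1, Finset.mem_biUnion] at h
  obtain ⟨j, -, hj⟩ := h
  exact ⟨j, (mem_AA.1 hj).2⟩

theorem cov_mul {x k : Fi23} (hk : k ∈ Hs) {g : Fi23} (h : Rel x g) : Rel (x * k) g := by
  obtain ⟨a, ha, b, hb, rfl⟩ := h
  exact ⟨a, ha, b * k, Hs.mul_mem hb hk, by group⟩

theorem cov_z0 {x : Fi23} (h : ∃ i, Rel x (W (gam i))) : ∃ i, Rel (x * z0) (W (gam i)) := by
  obtain ⟨i, a, ha, k, hk, rfl⟩ := h
  have h1 : T7.testBit (rho k 0) = true := Hs_le_T7 hk T7_tb0
  obtain ⟨j, hj⟩ := exists_rel i h1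
  refine ⟨j, Rel.trans ⟨a, ha, k, hk, ?_⟩ hj⟩
  rw [zt_of (v := k) rfl]
  group

theorem cov_gen (y : Gen) {x : Fi23} (h : ∃ i, Rel x (W (gam i))) : ∃ i, Rel (x * gen y) (W (gam i)) := by
  obtain ⟨l, hl, h1 | ⟨v, hv, h1⟩⟩ := el_gen y
  · obtain ⟨i, hi⟩ := h
    rw [← hl]
    exact ⟨i, cov_mul h1 hi⟩
  · rw [← hl, h1, ← mul_assoc, ← mul_assoc]
    obtain ⟨i, hi⟩ := h
    obtain ⟨j, hj⟩ := cov_z0 ⟨i, cov_mul hv hi⟩
    exact ⟨j, cov_mul (Hs.inv_mem hv) hj⟩

theorem gam_zero : W (gam 0) = 1 := by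
  have h : gam 0 = [] := rfl
  rw [h, W_nil]

theorem cov (x : Fi23) : ∃ i, Rel x (W (gam i)) := by
  have hx : x ∈ Subgroup.closure (Set.range gen) := by
    rw [Fi23Final.gens_top]
    trivial
  induction hx using Subgroup.closure_induction_right with
  | one => exact ⟨0, by rw [gam_zero]; exact Rel.refl 1⟩
  | mul_right x y _ hy ih =>
    obtain ⟨c, rfl⟩ := hy
    exact cov_gen c ih
  | mul_inv_cancel x y _ hy ih =>
    obtain ⟨c, rfl⟩ := hy
    rw [inv_eq_of_mul_eq_one_left (Fi23Final.gen_sq c)]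
    exact cov_gen c ih

/-- the double coset of an element -/
noncomputable def kap (x : Fi23) : Fin 16 := (cov x).choose

theorem kap_spec (x : Fi23) : Rel x (W (gam (kap x))) := (cov x).choose_spec

theorem kap_eq {x : Fi23} {i : Fin 16} : kap x = i ↔ Rel x (W (gam i)) := by
  constructor
  · rintro rfl
    exact kap_spec x
  · intro h
    exact rel_inj ((kap_spec x).symm.trans h)

theorem col : Col Hs kap (fun i => W (gam i)) TT zt Mx where
  γ0 := gam_zero
  κγ i := kap_eq.2 (Rel.refl _)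
  κl h hh x := kap_eq.2 (Rel.trans ⟨h, hh, 1, Hs.one_mem, by group⟩ (kap_spec x))
  κr x k hk := kap_eq.2 (cov_mul hk (kap_spec x))
  κs x := kap_spec x
  zz q _ := zt_sq q
  cnt x j := by
    rw [← (biUnion_AA (kap x)).2 j, ← AA_congr (kap_spec x)]
    have h : (TT.filter fun q => kap (x * zt q) = j) = AA x (W (gam j)) := by
      ext p
      rw [Finset.mem_filter, mem_AA, mem_TT, kap_eq]
    rw [h]

/-- **Two rational characters of odd degree of `Fi23`.** -/
theorem exists_812889 : ∃ χ : Fi23 → ℂ, IsIrrCharacter Fi23 χ ∧ (∀ g, ∃ q : ℚ, χ g = q) ∧ χ 1 = (812889 : ℕ) := by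
  have := Fintype.ofFinite Fi23
  exact col.exists_char_int kk kk_zero kk_par A77 _ A77_zero A77_eig C77 E77 E77_ne C77_eq 812889 d77

theorem exists_29354325 : ∃ χ : Fi23 → ℂ, IsIrrCharacter Fi23 χ ∧ (∀ g, ∃ q : ℚ, χ g = q) ∧
    χ 1 = (29354325 : ℕ) := by
  have := Fintype.ofFinite Fi23
  exact col.exists_char_int kk kk_zero kk_par A29 _ A29_zero A29_eig C29 E29 E29_ne C29_eq 29354325 d29

end Cfsg.Agent.H293.F23B

private theorem dce_1744863a13e5 : _root_.True := by
  try have : _root_.True := by simp only [_root_.Cfsg.Agent.H293.F23B.AA.eq_1]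
  exact _root_.True.intro
end

-- part: H535/K4/J1
section
prune_inst 0x100065157f00000000040016600040717100019000030800f1e40142080f7829c9022600ea900b0a19ce12a4500fc000001000c9401000000e00b600411b01a084ab50c2b33c0c08f00007c09803190c00000000000000000000000000041004004010000
set_option linter.all false
open scoped Cfsg.Agent.FastGrp

/-!
# Row J₁ of S4947, S4547 (helper535)

`J₁` has three irreducible characters of degree 77 and three of degree 133; all the characters of odd degree are in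
the principal 2-block and all the characters are fixed by the cubing automorphism, because the 2-elements are
involutions.

* `good5_j1`, `rowA_j1`.
-/

set_option autoImplicit false

namespace Cfsg.Agent.H535.K4.J1

open Cfsg Subgroup
open Cfsg.Agent.Characters.Core
open Cfsg.Agent.M23Order.Base
open Cfsg.Agent.H413.JOneSpec
open Cfsg.Agent.SporRec.J1.Defs
open Cfsg.Agent.H417 Cfsg.Agent.H417.JOneDeg
open Cfsg.Agent.H175.Eight (arith_j1)
open Cfsg.Agent.H601.K4

universe u

variable {K : Type u} [Group K]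

set_option maxHeartbeats 1000000 in
/-- there are three characters of degree 77 and three characters of degree 133 -/
theorem cnt_j1 [Finite K] [IsSimpleGroup K] [Fintype (IrrCharacter K)] (h : Local K) (hc : Nat.card K = 175560) :
    cnt (fun χ : IrrCharacter K => dg χ) 77 = 3 ∧ cnt (fun χ : IrrCharacter K => dg χ) 133 = 3 := by
  classical
  have f7 : Fact (Nat.Prime 7) := ⟨by norm_num⟩
  have f11 : Fact (Nat.Prime 11) := ⟨by norm_num⟩
  have f19 : Fact (Nat.Prime 19) := ⟨by norm_num⟩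
  obtain ⟨P, hP, ⟨D⟩⟩ := BlockCount.exists_SC (G := K) 7 (by norm_num) (by rw [hc]; norm_num)
    (by rw [hc]; norm_num) (fun y hy => by rw [card_cent h hc (by rw [hy]; unfold Big; tauto), hy]) (e := 6) (t := 1)
    (by rw [hc]) (by norm_num)
  obtain ⟨Q, hQ, ⟨E⟩⟩ := BlockCount.exists_SC (G := K) 11 (by norm_num) (by rw [hc]; norm_num)
    (by rw [hc]; norm_num) (fun y hy => by rw [card_cent h hc (by rw [hy]; unfold Big; (clear * -; tauto)), hy]) (e := 10) (t := 1)
    (by rw [hc]) (by norm_num)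
  obtain ⟨R, hR, ⟨F⟩⟩ := BlockCount.exists_SC (G := K) 19 (by norm_num) (by rw [hc]; norm_num)
    (by rw [hc]; norm_num) (fun y hy => by rw [card_cent h hc (by rw [hy]; unfold Big; (clear * -; tauto)), hy]) (e := 6) (t := 3)
    (by rw [hc]) (by norm_num)
  have hperf : commutator K = ⊤ := MTwelve.SmallDegree.commutator_eq_top_of_card (by rw [hc]; norm_num)
  have hmem : ∀ χ : IrrCharacter K, dg χ ∈ ({1, 56, 76, 77, 120, 132, 133, 209} : Finset ℕ) := by
    intro χ
    have h1 := Divs.all_divs _ primes_ok (N := 175560) rfl deg_list (d := dg χ) (by rw [← hc]; exact dg_dvd χ)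
    have h2 := BlockCount.mod_cases D (by norm_num) (by norm_num) (by norm_num) χ
    have h3 := BlockCount.mod_cases E (by norm_num) (by norm_num) (by norm_num) χ
    have h4 := BlockCount.mod_cases F (by norm_num) (by norm_num) (by norm_num) χ
    have h5 := ne_210 h hc χ
    have h6 : dg χ ^ 2 ≤ 175560 := by
      have h7 := sum_dg_sq_le {χ}
      rw [Finset.sum_singleton, hc] at h7
      exact h7
    simp only [Finset.mem_insert, Finset.mem_singleton]
    simp only [Bool.or_eq_true, decide_eq_true_eq, Bool.not_eq_true', beq_iff_eq, Bool.or_eq_false_iff,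
      beq_eq_false_iff_ne] at h1
    rcases h1 with (((h1 | h1) | h1) | h1) | h1
    · exact absurd h6 (not_le.2 h1)
    · exact (h2.elim h1.1.1 fun h => h.elim h1.1.2 fun h => h.elim h1.2 fun h => h.elim h1.2 h1.1.2).elim
    · exact (h3.elim h1.1.1 fun h => h.elim h1.1.2 fun h => h.elim h1.2 fun h => h.elim h1.2 h1.1.2).elim
    · exact (h4.elim h1.1.1.1.1 fun h => h.elim h1.1.1.1.2 fun h => h.elim h1.1.1.2 fun h => h.elim h1.1.2 h1.2).elim
    · simpa only [or_assoc, h5, or_false] using h1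
  have h1 : cnt (fun χ : IrrCharacter K => dg χ) 1 = 1 := by
    rw [cnt, Finset.card_eq_one]
    refine ⟨⟨1, isIrr_one⟩, ?_⟩
    ext χ
    rw [Finset.mem_filter, Finset.mem_singleton]
    constructor
    · rintro ⟨-, h1⟩
      exact Subtype.ext (coe_eq_one_of_dg hperf h1)
    · rintro rfl
      exact ⟨Finset.mem_univ _, dg_of_eq (by simp)⟩
  have hsum := sum_eq (fun χ : IrrCharacter K => dg χ) _ hmem (fun d => d ^ 2)
  rw [sum_dg_sq, hc] at hsum
  have e7 := BlockCount.card_ne_zero D (by norm_num) (by norm_num) (by norm_num)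
  have e11 := BlockCount.card_ne_zero E (by norm_num) (by norm_num) (by norm_num)
  have e19 := BlockCount.card_ne_zero F (by norm_num) (by norm_num) (by norm_num)
  have x19 := BlockCount.card_exc F (by norm_num) (by norm_num) (by norm_num)
  rw [card_filter_eq (fun χ : IrrCharacter K => dg χ) _ hmem (fun d => d % 7 ≠ 0)] at e7
  rw [card_filter_eq (fun χ : IrrCharacter K => dg χ) _ hmem (fun d => d % 11 ≠ 0)] at e11
  rw [card_filter_eq (fun χ : IrrCharacter K => dg χ) _ hmem (fun d => d % 19 ≠ 0)] at e19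
  rw [card_filter_eq (fun χ : IrrCharacter K => dg χ) _ hmem (fun d => d % 19 = 6 ∨ d % 19 = 19 - 6)] at x19
  rw [show (({1, 56, 76, 77, 120, 132, 133, 209} : Finset ℕ).filter fun d => d % 7 ≠ 0) =
    {1, 76, 120, 132, 209} by decide +kernel] at e7
  rw [show (({1, 56, 76, 77, 120, 132, 133, 209} : Finset ℕ).filter fun d => d % 11 ≠ 0) =
    {1, 56, 76, 120, 133} by decide +kernel] at e11
  rw [show (({1, 56, 76, 77, 120, 132, 133, 209} : Finset ℕ).filter fun d => d % 19 ≠ 0) =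
    {1, 56, 77, 120, 132} by decide +kernel] at e19
  rw [show (({1, 56, 76, 77, 120, 132, 133, 209} : Finset ℕ).filter fun d => d % 19 = 6 ∨ d % 19 = 19 - 6) =
    {120} by decide +kernel] at x19
  repeat rw [Finset.sum_insert (by decide)] at hsum
  repeat rw [Finset.sum_insert (by decide)] at e7
  repeat rw [Finset.sum_insert (by decide)] at e11
  repeat rw [Finset.sum_insert (by decide)] at e19
  rw [Finset.sum_singleton] at hsum e7 e11 e19 x19
  rw [h1] at hsum e7 e11 e19
  generalize h56 : cnt (fun χ : IrrCharacter K => dg χ) 56 = a56 at hsum e7 e11 e19 x19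
  generalize h76 : cnt (fun χ : IrrCharacter K => dg χ) 76 = a76 at hsum e7 e11 e19 x19
  generalize h77 : cnt (fun χ : IrrCharacter K => dg χ) 77 = a77 at hsum e7 e11 e19 x19
  generalize h120 : cnt (fun χ : IrrCharacter K => dg χ) 120 = a120 at hsum e7 e11 e19 x19
  generalize h132 : cnt (fun χ : IrrCharacter K => dg χ) 132 = a132 at hsum e7 e11 e19 x19
  generalize h133 : cnt (fun χ : IrrCharacter K => dg χ) 133 = a133 at hsum e7 e11 e19 x19
  generalize h209 : cnt (fun χ : IrrCharacter K => dg χ) 209 = a209 at hsum e7 e11 e19 x19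
  obtain ⟨s56, s76, s77, s132, s133, s209⟩ := arith_j1 (a56 := a56) (a76 := a76) (a77 := a77)
    (a120 := a120) (a132 := a132) (a133 := a133) (a209 := a209) (by omega) (by (clear * - x19 e19 e7; omega)) (by omega)
    (by omega) (by (clear * - x19 e11 hsum; omega))
  exact ⟨s77, s133⟩

/-- the squares of the 2-elements are trivial -/
theorem sq_of_pow {g : Spor.J1} {j : ℕ} (h : orderOf g = 2 ^ j) : g * g = 1 := by
  have hfin : Finite Spor.J1 := Nat.finite_of_card_ne_zero (by rw [H413.JOneLocal.card_J1]; norm_num)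
  have fact2 : Fact (Nat.Prime 2) := ⟨Nat.prime_two⟩
  have h1 : IsPGroup 2 (zpowers g) := IsPGroup.of_card (n := j) (by rw [Nat.card_zpowers, h])
  obtain ⟨T, hT⟩ := h1.exists_le_sylow
  exact H161.RowReeJ1.j1_sq T g (hT (mem_zpowers g))

theorem sigFix (χ : Spor.J1 → ℂ) : SigFix χ := by
  have hfin : Finite Spor.J1 := Nat.finite_of_card_ne_zero (by rw [H413.JOneLocal.card_J1]; norm_num)
  intro k h2 h3 g
  obtain ⟨x, y, rfl, hxy, ⟨j, hx⟩, hy⟩ := H618.Sigma.exists_decomp g
  have h4 : x ^ 3 = x := by rw [pow_succ, pow_two, sq_of_pow hx, one_mul]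
  rw [hxy.mul_pow, h2 x ⟨j, hx⟩, h3 y hy, h4]

theorem good5_model : Good5 Spor.J1 := by
  classical
  have : IsSimpleGroup Spor.J1 := SporadicB.J1.Main.isJ1.1
  have hfin : Finite Spor.J1 := Nat.finite_of_card_ne_zero (by rw [H413.JOneLocal.card_J1]; norm_num)
  have hfi := finite_irr (G := Spor.J1)
  let _ := Fintype.ofFinite (IrrCharacter Spor.J1)
  have hJ : Spor.IsoJ1 Spor.J1 := ⟨MulEquiv.refl _⟩
  have hC : H601.OddDeg.TwoC Spor.J1 := H989.TwoCSpor.twoC_spor
    (Or.inr (Or.inr (Or.inr (Or.inr (Or.inr (Or.inl hJ))))))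
  obtain ⟨h1, h2⟩ := cnt_j1 H413.JOneLocal.isLocal H413.JOneLocal.card_J1
  let s : Finset (IrrCharacter Spor.J1) := Finset.univ.filter fun χ => dg χ = 77 ∨ dg χ = 133
  have hs : s.card = 6 := by
    have h3 : s = (Finset.univ.filter fun χ => dg χ = 77) ∪ (Finset.univ.filter fun χ => dg χ = 133) := by
      ext χ
      simp only [s, _root_.Finset.mem_filter, _root_.Finset.mem_univ, _root_.true_and, _root_.Finset.mem_union]
    rw [h3, Finset.card_union_of_disjoint, ← cnt, ← cnt, h1, h2]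
    rw [Finset.disjoint_filter]
    intro χ _ h4 h5
    omega
  refine H329.K4.good5_of_finset (s.image fun χ : IrrCharacter Spor.J1 => (χ : Spor.J1 → ℂ)) ?_ ?_
  · intro χ hχ
    obtain ⟨ψ, hψ, rfl⟩ := Finset.mem_image.1 hχ
    have h3 := (Finset.mem_filter.1 hψ).2
    refine H329.K4.good_of hC ⟨ψ.2, ?_⟩ (sigFix _)
    show ¬ 2 ∣ dg ψ
    omega
  · rw [Finset.card_image_of_injective _ Subtype.val_injective, hs]
    norm_num

/-- **`J₁`, row (A) of S4547** -/
theorem good5_j1 {S : Type u} [Group S] (h : Spor.IsoJ1 S) : Good5 S := by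
  have hfin : Finite Spor.J1 := Nat.finite_of_card_ne_zero (by rw [H413.JOneLocal.card_J1]; norm_num)
  obtain ⟨e⟩ := h
  have : Finite S := Finite.of_equiv _ e.symm.toEquiv
  exact H740.K4.good5_of_equiv e good5_model

end Cfsg.Agent.H535.K4.J1
end

-- part: H293/F23B/R3Rat
section
set_option linter.all false
open scoped Cfsg.Agent.FastGrp

/-!
# The constituents of a rank 3 permutation character with different degrees are rational; the character of
degree 106743 of `Fi23`
-/

set_option autoImplicit false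

namespace Cfsg.Agent.H293.F23B

open Cfsg MulAction Cfsg.Agent.Characters Cfsg.Agent.Characters.Core Cfsg.Agent.H672.SporIM
  Cfsg.Agent.H690.Spor.RankThree Cfsg.Agent.H665.NoPQ Cfsg.Agent.H33 Cfsg.Agent.Blocks.Knorr

/-- a rational irreducible character of degree `d` -/
def RatDeg (G : Type*) [Group G] (d : ℕ) : Prop :=
  ∃ χ : G → ℂ, IsIrrCharacter G χ ∧ (∀ g, ∃ q : ℚ, χ g = q) ∧ χ 1 = (d : ℕ)

/-- a character is determined by its degree in a sum `1 + χ₁ + χ₂` -/
theorem eq_of_sum {G : Type*} [Group G] [Finite G] {χ₁ χ₂ ψ₁ ψ₂ : G → ℂ} (h1 : IsIrrCharacter G χ₁)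
    (h2 : IsIrrCharacter G χ₂) (k1 : IsIrrCharacter G ψ₁) (k2 : IsIrrCharacter G ψ₂)
    (h : ∀ x, χ₁ x + χ₂ x = ψ₁ x + ψ₂ x) (hd : χ₁ 1 ≠ ψ₂ 1) (hd1 : ψ₁ 1 ≠ ψ₂ 1) : χ₂ = ψ₂ := by
  classical
  have := Fintype.ofFinite G
  have e : χ₁ + χ₂ = ψ₁ + ψ₂ := funext h
  have h3 := congrArg (fun f => classInner f ψ₂) e
  simp only [classInner_add_left] at h3
  rw [classInner_irr_ne h1 k2 (fun h => hd (congrFun h 1)), classInner_irr_ne k1 k2 (fun h => hd1 (congrFun h 1)),
    classInner_irr_self k2, zero_add, zero_add] at h3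
  by_contra hne
  rw [classInner_irr_ne h2 k2 hne] at h3
  exact zero_ne_one h3

theorem fixedBy_pow {G X : Type*} [Group G] [MulAction G X] [Finite G] {m : ℕ} (hm : m.Coprime (Nat.card G)) (g : G) :
    fixedBy X (g ^ m) = fixedBy X g := by
  have key : ∀ (z : G) (n : ℕ) (x : X), z • x = x → z ^ n • x = x := by
    intro z n x hx
    induction n with
    | zero => rw [pow_zero, one_smul]
    | succ n ih => rw [pow_succ, mul_smul, hx, ih]
  obtain ⟨l, hl⟩ : ∃ l : ℕ, (g ^ m) ^ l = g := by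
    have h1 : (orderOf g).Coprime m := (hm.coprime_dvd_right (orderOf_dvd_natCard g)).symm
    obtain ⟨l, hl⟩ := exists_pow_eq_self_of_coprime h1.symm
    exact ⟨l, hl⟩
  ext x
  rw [mem_fixedBy, mem_fixedBy]
  constructor
  · intro h
    have := key (g ^ m) l x h
    rwa [hl] at this
  · exact key g m x

theorem rat_of_frame {G X : Type*} [Group G] [MulAction G X] [Finite G] {χ₁ χ₂ : G → ℂ} (h1 : IsIrrCharacter G χ₁)
    (h2 : IsIrrCharacter G χ₂) (hf : ∀ x : G, (Nat.card (fixedBy X x) : ℂ) = 1 + χ₁ x + χ₂ x) (hd : χ₁ 1 ≠ χ₂ 1) (g : G) :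
    ∃ q : ℚ, χ₂ g = q := by
  rw [GaloisBasic.exists_rat_iff (isIrr_isCharacter h2) g]
  intro m hm
  have k1 : IsIrrCharacter G (fun g => χ₁ (g ^ m)) := GaloisIrr.isIrr_pow hm h1
  have k2 : IsIrrCharacter G (fun g => χ₂ (g ^ m)) := GaloisIrr.isIrr_pow hm h2
  have h := (eq_of_sum h1 h2 k1 k2 (fun x => ?_) ?_ ?_).symm
  · exact congrFun h g
  · have e1 := hf x
    have e2 := hf (x ^ m)
    rw [fixedBy_pow hm] at e2
    show χ₁ x + χ₂ x = χ₁ (x ^ m) + χ₂ (x ^ m)
    linear_combination e2 - e1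
  · show χ₁ 1 ≠ χ₂ (1 ^ m)
    rwa [one_pow]
  · show χ₁ (1 ^ m) ≠ χ₂ (1 ^ m)
    rwa [one_pow]

/-- **Rational characters of a rank 3 permutation character.** -/
theorem ratDeg_of_R3 {G X : Type*} [Group G] [MulAction G X] [Finite G] {R : X → X → Prop} {k l : ℕ}
    (h : R3 G X R k l) {n s P : ℕ} (hn : Nat.card G = n) (hs : k + l = s) (hP : (1 + k + l) * k * l = P)
    (L : List (ℕ × ℕ)) (Q : List ℕ) (hL : ∀ x ∈ L, x.1.Prime) (hQ : ∀ x ∈ Q, x.Prime) (hQn : Q.Nodup)
    (hPM : P = (L.map fun x => x.1 ^ x.2).prod * (L.map fun x => x.1 ^ x.2).prod * Q.prod)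
    (hodd : Odd s ∨ ¬ s / 2 ∣ n) (sols : List (ℕ × ℕ))
    (hchk : (divList L).all (chkD s P n sols) = true) :
    ∃ x ∈ sols, RatDeg G x.1 ∧ RatDeg G x.2 := by
  classical
  have hq := squarefree_prod hQ hQn
  have hfX : Finite X := Nat.finite_of_card_ne_zero (by rw [h.cardn]; omega)
  have := Fintype.ofFinite X
  obtain ⟨χ₁, χ₂, f, g, D, h1, h2, hfr, h3, h4, h5⟩ := h.frame
  have hd1 : charDegree (χ₁ : G → ℂ) = f := Cfsg.Agent.H670.PSing.charDegree_eq_of h1
  have hd2 : charDegree (χ₂ : G → ℂ) = g := Cfsg.Agent.H670.PSing.charDegree_eq_of h2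
  have hf : f ∣ n := by rw [← hd1, ← hn]; exact charDegree_dvd χ₁.2
  have hg : g ∣ n := by rw [← hd2, ← hn]; exact charDegree_dvd χ₂.2
  have hne : f ≠ g := by
    rintro rfl
    rcases hodd with h6 | h6
    · rw [← hs, ← h3] at h6
      exact (Nat.not_even_iff_odd.2 h6) ⟨f, rfl⟩
    · apply h6
      rw [← hs, ← h3, show (f + f) / 2 = f by omega]
      exact hf
  obtain ⟨d, rfl⟩ := h5 hne
  have hM : 0 < (L.map fun x => x.1 ^ x.2).prod := by
    apply Nat.pos_of_ne_zero
    intro h0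
    rw [h0, zero_mul, zero_mul] at hPM
    rw [hPM] at hP
    have := Nat.mul_pos (Nat.mul_pos (show 0 < 1 + k + l by omega) h.k0) h.l0
    omega
  have hP0 : 0 < P := by
    rw [← hP]
    exact Nat.mul_pos (Nat.mul_pos (by omega) h.k0) h.l0
  have hd : 0 < d := by
    apply Nat.pos_of_ne_zero
    rintro rfl
    rw [mul_zero, mul_zero, hP] at h4
    omega
  have h6 : f * g * (d * d) = P := by rw [h4, hP]
  have h7 : d ∣ (L.map fun x => x.1 ^ x.2).prod := by
    apply dvd_of_sq_dvd hq hM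
    rw [← hPM, ← h6]
    exact Dvd.intro_left _ rfl
  have h8 := List.all_eq_true.1 hchk d (mem_divList hL h7)
  have hne' : (χ₁ : G → ℂ) 1 ≠ (χ₂ : G → ℂ) 1 := by
    rw [h1, h2]
    exact_mod_cast hne
  have r2 : RatDeg G g := ⟨χ₂, χ₂.2, rat_of_frame χ₁.2 χ₂.2 hfr hne', h2⟩
  have r1 : RatDeg G f := ⟨χ₁, χ₁.2, rat_of_frame χ₂.2 χ₁.2 (fun x => by rw [hfr]; ring) hne'.symm, h1⟩
  rcases lt_or_gt_of_ne hne with hlt | hlt
  · exact ⟨(g, f), chkD_spec h8 hlt (by omega) (by rw [mul_comm g f]; exact h6) hd hg hf, r2, r1⟩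
  · exact ⟨(f, g), chkD_spec h8 hlt (by omega) h6 hd hf hg, r1, r2⟩

open Cfsg.Agent.H678.DG.FiPts in
/-- The rational character of degree 106743 of `Fi23`. -/
theorem exists_106743 : RatDeg Spor.Fi23 106743 := by
  have hc := Cfsg.Agent.NotCT.Orders.fi23 (K := Spor.Fi23) ⟨MulEquiv.refl _⟩
  have : Finite Spor.Fi23 := Nat.finite_of_card_ne_zero (by rw [hc]; norm_num)
  obtain ⟨X, i, k, m, R, hR, h1, h2, h3⟩ := exists_R3
  obtain ⟨x, hx, hd⟩ : ∃ x ∈ [(106743, 30888)], RatDeg Spor.Fi23 x.1 ∧ RatDeg Spor.Fi23 x.2 := by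
    rcases subdeg h1 h2 h3 with ⟨rfl, rfl⟩ | ⟨rfl, rfl⟩
    · exact ratDeg_of_R3 hR hc rfl (P := 427301280806400) (by norm_num) [(2, 4), (3, 4), (5, 1), (13, 1)]
        [2, 7, 11, 17, 23] (by simp only [List.forall_mem_cons]; norm_num)
        (by simp only [List.forall_mem_cons]; norm_num) (by decide) (by norm_num) (Or.inl (by decide)) [(106743, 30888)]
        (by decide +kernel)
    · exact ratDeg_of_R3 hR hc rfl (P := 427301280806400) (by norm_num) [(2, 4), (3, 4), (5, 1), (13, 1)]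
        [2, 7, 11, 17, 23] (by simp only [List.forall_mem_cons]; norm_num)
        (by simp only [List.forall_mem_cons]; norm_num) (by decide) (by norm_num) (Or.inl (by decide)) [(106743, 30888)]
        (by decide +kernel)
  rw [List.mem_singleton] at hx
  subst hx
  exact hd.1

end Cfsg.Agent.H293.F23B
end

-- part: H293/F23B/Row
section
set_option linter.all false
open scoped Cfsg.Agent.FastGrp

/-!
# K4 rows (S4947, S4547): the Fischer group `Fi23` (helper293)

Three rational irreducible characters of odd degrees divisible by 23: 106743 (rank 3 on 137632 points), 812889 and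
29354325 (rank 16 on the 195747435 maximal sets of commuting transpositions, collapsed matrix).
-/

set_option autoImplicit false

namespace Cfsg.Agent.H293.F23B

open Cfsg Cfsg.Agent.H601.K4 Cfsg.Agent.H740.K4

universe u

theorem card_fi23' : Nat.card Spor.Fi23 = 4089470473293004800 := Fischer.Fi23Simple.card_Fi23

/-- The three characters. -/
theorem exists_three : ∃ χ : Fin 3 → Spor.Fi23 → ℂ, (∀ i, IsIrrCharacter Spor.Fi23 (χ i)) ∧
    (∀ i, χ i 1 = ((![106743, 812889, 29354325] : Fin 3 → ℕ) i : ℕ)) ∧ ∀ i g, ∃ q : ℚ, χ i g = q := by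
  obtain ⟨a, ha, haq, ha1⟩ := exists_106743
  obtain ⟨b, hb, hbq, hb1⟩ := exists_812889
  obtain ⟨c, hc, hcq, hc1⟩ := exists_29354325
  refine ⟨![a, b, c], ?_, ?_, ?_⟩
  · intro i
    fin_cases i <;> assumption
  · intro i
    fin_cases i <;> assumption
  · intro i
    fin_cases i <;> assumption

theorem dvd_tab : (23 ^ 1 ∣ 4089470473293004800) ∧ ¬ (23 ^ (1 + 1) ∣ 4089470473293004800) ∧
    Even 4089470473293004800 := by decide

/-- **Row (A) of S4547 for `Fi23`**, model. -/
theorem good5_model : Good5 Spor.Fi23 := by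
  have hfin : Finite Spor.Fi23 := Nat.finite_of_card_ne_zero (by rw [card_fi23']; norm_num)
  obtain ⟨χ, h1, h2, h3⟩ := exists_three
  refine good5_of_defect_zero (p := 23) (n := 1) (χ := χ) (d := ![106743, 812889, 29354325]) ?_ (by norm_num)
    (by decide) one_ne_zero ?_ ?_ h1 h2 h3 (by decide) (by decide) (by decide) (by decide)
  · rw [card_fi23']
    exact dvd_tab.2.2
  · rw [card_fi23']
    exact dvd_tab.1
  · rw [card_fi23']
    exact dvd_tab.2.1

/-- **Row (A) of S4547 for `Fi23`.** -/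
theorem good5 {S : Type u} [Group S] (h : Spor.IsoFi23 S) : Good5 S := by
  obtain ⟨e⟩ := h
  exact good5_of_equiv e good5_model

end Cfsg.Agent.H293.F23B
end

-- part: H714/Fi22/Row
section
set_option linter.all false
open scoped Cfsg.Agent.FastGrp

/-!
# `Fi22`: five good characters (helper714, for S4947, S4925, S4547)

* `deg_1001`, `deg_10725` : rational irreducible characters (signed permutation action on 61776 points);
* `deg_429` : the rational irreducible character of degree 429 (rank 3 action on 14080 points);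
* `exists_three` : good characters of degrees 429, 1001, 10725;
* `good5_fi22`, `odd5_fi22`, `rowA_fi22`.
-/

set_option autoImplicit false
set_option maxRecDepth 100000

open Cfsg Cfsg.Spor Cfsg.Agent.Characters.Core Cfsg.Agent.Characters.GaloisBasic

universe u

namespace Cfsg.Agent.H714.Fi22.Row

open Cfsg.Agent.H956.K4.RatDeg

section rat

variable {G : Type*} [Group G] [Finite G]

theorem rat_of_rt {χ : G → ℂ} (hχ : IsCharacter G χ) (h : Rt χ) (g : G) : ∃ q : ℚ, χ g = q := by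
  rw [exists_rat_iff hχ]
  intro m hm
  obtain ⟨σ, hσ⟩ := exists_ringEquiv_of_coprime (G := G) hm
  rw [← hσ χ hχ g, h σ g]

/-- The first of two irreducible characters of different degrees with a rational sum is rational. -/
theorem rt_of_two {χ₁ χ₂ : IrrCharacter G} (hne : (χ₁ : G → ℂ) 1 ≠ (χ₂ : G → ℂ) 1)
    (hsum : ∀ (σ : ℂ ≃+* ℂ) (x : G), σ ((χ₁ : G → ℂ) x + (χ₂ : G → ℂ) x) = (χ₁ : G → ℂ) x + (χ₂ : G → ℂ) x) :
    Rt (χ₁ : G → ℂ) := by
  classical
  have := Fintype.ofFinite G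
  intro σ g
  have h1 := Cfsg.Agent.Characters.GaloisIrr.isIrr_map σ χ₁.2
  have h2 := Cfsg.Agent.Characters.GaloisIrr.isIrr_map σ χ₂.2
  have hdeg : ∀ χ : IrrCharacter G, σ ((χ : G → ℂ) 1) = (χ : G → ℂ) 1 := by
    intro χ
    obtain ⟨n, -, hn⟩ := isIrr_apply_one χ.2
    rw [hn, map_natCast]
  have hne' : (χ₂ : G → ℂ) ≠ (χ₁ : G → ℂ) := fun h => hne (by rw [h])
  have hne2 : (fun g => σ ((χ₂ : G → ℂ) g)) ≠ (χ₁ : G → ℂ) := by
    intro h
    apply hne
    rw [← congrFun h 1]
    exact hdeg χ₂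
  have e1 : classInner ((χ₁ : G → ℂ) + (χ₂ : G → ℂ)) (χ₁ : G → ℂ) = 1 := by
    rw [classInner_add_left, classInner_irr_self χ₁.2, classInner_irr_ne χ₂.2 χ₁.2 hne', add_zero]
  have e2 : ((χ₁ : G → ℂ) + (χ₂ : G → ℂ)) = (fun g => σ ((χ₁ : G → ℂ) g)) + fun g => σ ((χ₂ : G → ℂ) g) := by
    funext x
    rw [Pi.add_apply, Pi.add_apply, ← map_add, hsum]
  by_contra hcon
  have hne1 : (fun g => σ ((χ₁ : G → ℂ) g)) ≠ (χ₁ : G → ℂ) := fun h => hcon (congrFun h g)
  rw [e2, classInner_add_left, classInner_irr_ne h1 χ₁.2 hne1, classInner_irr_ne h2 χ₁.2 hne2, add_zero] at e1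
  exact zero_ne_one e1

end rat

open Cfsg.Agent.H714.Fi22.Deg Cfsg.Agent.H714.Fi22.Stab

/-- the degree 429 -/
theorem deg_429 : ∃ χ : IrrCharacter Fi22, charDegree (χ : Fi22 → ℂ) = 429 ∧ Rt (χ : Fi22 → ℂ) := by
  have := finite_fi22
  obtain ⟨χ₁, χ₂, h1, h2, h3⟩ := H729.FiTTRank.exists_irr
  refine ⟨χ₁, Cfsg.Agent.Blocks.Basic.charDegree_of_eq (by rw [h1]; norm_num), rt_of_two (χ₂ := χ₂) ?_ ?_⟩
  · rw [h1, h2]; norm_num
  · intro σ x
    have h4 : (χ₁ : Fi22 → ℂ) x + (χ₂ : Fi22 → ℂ) x =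
        (Nat.card (MulAction.fixedBy (Fi22 ⧸ Cfsg.Agent.Fischer.Fi22Sub.H) x) : ℂ) - 1 := by
      rw [h3 x]; ring
    rw [h4, map_sub, map_natCast, map_one]

theorem transfer {S K : Type*} [Group S] [Group K] (f : S ≃* K) {d : ℕ}
    (h : ∃ χ : IrrCharacter K, charDegree (χ : K → ℂ) = d ∧ Rt (χ : K → ℂ)) :
    ∃ χ : IrrCharacter S, charDegree (χ : S → ℂ) = d ∧ Rt (χ : S → ℂ) := by
  obtain ⟨χ, h1, h2⟩ := h
  refine ⟨⟨fun s => (χ : K → ℂ) (f s), isIrr_comp f.toMonoidHom f.surjective χ.2⟩, ?_, fun σ g => h2 σ (f g)⟩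
  rw [← h1]
  show ⌊((χ : K → ℂ) (f 1)).re⌋₊ = ⌊((χ : K → ℂ) 1).re⌋₊
  rw [map_one]

theorem card_of {S : Type u} [Group S] (h : IsoFi22 S) : Nat.card S = 64561751654400 := NotCT.Orders.fi22 h

/-- **Five good characters of `Fi22`.** -/
theorem good5_fi22 {S : Type u} [Group S] (h : IsoFi22 S) : H601.K4.Good5 S := by
  have hc := card_of h
  have hfin : Finite S := Nat.finite_of_card_ne_zero (by rw [hc]; norm_num)
  obtain ⟨e⟩ := h
  obtain ⟨χ₁, h1, h1'⟩ := transfer e deg_429
  obtain ⟨χ₂, h2, h2'⟩ := transfer e deg_1001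
  obtain ⟨χ₃, h3, h3'⟩ := transfer e deg_10725
  have hd : ∀ (χ : IrrCharacter S) {d : ℕ}, charDegree (χ : S → ℂ) = d → (χ : S → ℂ) 1 = d := fun χ d hd => by
    rw [Cfsg.Agent.Blocks.Basic.irr_one_eq_charDegree χ.2, hd]
  refine H740.K4.good5_of_defect_zero (p := 13) (n := 1) (d := ![429, 1001, 10725])
    (χ := ![(χ₁ : S → ℂ), (χ₂ : S → ℂ), (χ₃ : S → ℂ)]) (by rw [hc]; decide) (by norm_num) (by decide) (by norm_num)
    (by rw [hc]; norm_num) (by rw [hc]; norm_num) ?_ ?_ ?_ ?_ ?_ ?_ ?_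
  · intro i
    fin_cases i
    exacts [χ₁.2, χ₂.2, χ₃.2]
  · intro i
    fin_cases i
    exacts [hd _ h1, hd _ h2, hd _ h3]
  · intro i
    fin_cases i
    exacts [rat_of_rt (isIrr_isCharacter χ₁.2) h1', rat_of_rt (isIrr_isCharacter χ₂.2) h2',
      rat_of_rt (isIrr_isCharacter χ₃.2) h3']
  · intro i
    fin_cases i <;> decide
  · intro i
    fin_cases i <;> norm_num
  · intro i
    fin_cases i <;> norm_num
  · decide

end Cfsg.Agent.H714.Fi22.Row
end

-- part: H492/K4ThFin
section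
set_option linter.all false
open scoped Cfsg.Agent.FastGrp

-- part: H492/K4Th
section
/-!
# Odd degree characters of the Thompson group (helper492)

`good5_th_of` : the irreducible characters of degrees 4123, 30875, 3376737 are rational-valued and
vanish at the elements of order 19; so there are five odd-degree characters fixed by the Galois
automorphism of S4547.
-/

set_option autoImplicit false

open Cfsg

noncomputable section

namespace Cfsg.Agent.H492.K4Th

open Cfsg.Agent.H601.K4 Cfsg.Agent.H601.OddDeg Cfsg.Agent.H329.K4 Cfsg.Agent.Characters.Core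

universe u v

theorem sigFix_of_all {T : Type v} [Group T] [Finite T] {χ : T → ℂ} (hχ : IsCharacter T χ)
    (h : ∀ σ : ℂ →+* ℂ, ∀ g, σ (χ g) = χ g) : SigFix χ := by
  refine SigFix.of_pow fun k hk g => ?_
  obtain ⟨σ, hσ⟩ := Cfsg.Agent.Characters.GaloisBasic.exists_ringEquiv_of_coprime hk
  rw [← hσ χ hχ g]
  exact h (σ : ℂ →+* ℂ) g

theorem good5' (hC : TwoC Cfsg.Spor.Th) : Good5 Cfsg.Spor.Th := by
  obtain ⟨hfin, hcard, -, -⟩ := Cfsg.Agent.Th.Main1700.final
  obtain ⟨a, ha, sa⟩ := ThRat.val_4123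
  obtain ⟨b, hb, sb⟩ := ThRat.val_30875
  obtain ⟨c, hc, sc⟩ := ThRat.val_3376737
  have h19 : Nat.Prime 19 := by norm_num
  have := Fact.mk h19
  obtain ⟨t, ht⟩ := exists_prime_orderOf_dvd_card' (G := Cfsg.Spor.Th) 19 (by rw [hcard]; norm_num)
  have hz : ∀ (φ : IrrCharacter Cfsg.Spor.Th) {d : ℕ}, (φ : Cfsg.Spor.Th → ℂ) 1 = d → 19 ∣ d →
      (φ : Cfsg.Spor.Th → ℂ) t = 0 := by
    intro φ d h2 h3
    exact Cfsg.Agent.H707.Odd.eq_zero_of_defect_zero (p := 19) (n := 1) h19
      (by rw [hcard]; norm_num) (by rw [hcard]; norm_num) φ.2 h2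
      (by simpa using h3) (by rw [ht])
  have hg : ∀ (φ : IrrCharacter Cfsg.Spor.Th) {d : ℕ}, (φ : Cfsg.Spor.Th → ℂ) 1 = d → ¬ 2 ∣ d →
      (∀ σ : ℂ →+* ℂ, ∀ x, σ ((φ : Cfsg.Spor.Th → ℂ) x) = (φ : Cfsg.Spor.Th → ℂ) x) →
      Good (φ : Cfsg.Spor.Th → ℂ) := by
    intro φ d h1 h2 h3
    refine good_of hC ⟨φ.2, ?_⟩ (sigFix_of_all (isIrr_isCharacter φ.2) h3)
    rw [Cfsg.Agent.H670.PSing.charDegree_eq_of h1]
    exact h2
  have hne : ∀ (χ ψ : IrrCharacter Cfsg.Spor.Th) (m n : ℕ),
      (χ : Cfsg.Spor.Th → ℂ) 1 = (m : ℂ) → (ψ : Cfsg.Spor.Th → ℂ) 1 = (n : ℂ) → m ≠ n →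
      (χ : Cfsg.Spor.Th → ℂ) ≠ ψ := by
    intro χ ψ m n hm hn hmn h
    apply hmn
    rw [h, hn] at hm
    exact_mod_cast hm.symm
  refine good5_of_four hC ?_ (hg a ha (by norm_num) sa) (hg b hb (by norm_num) sb)
    (hg c hc (by norm_num) sc) (hne _ _ _ _ ha hb (by norm_num)) (hne _ _ _ _ ha hc (by norm_num))
    (hne _ _ _ _ hb hc (by norm_num)) (t := t) ?_ (hz a ha (by norm_num)) (hz b hb (by norm_num))
    (hz c hc (by norm_num))
  · rw [hcard]; decide
  · rw [ht]; decide

/-- **Row (A) of S4547 for `Th`**; `hC`, `hC'` : the centralizer condition for the principal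
2-block. -/
theorem good5_th_of {S : Type u} [Group S] [Finite S] (h : Cfsg.Spor.IsoTh S) (hC : TwoC S)
    (hC' : TwoC Cfsg.Spor.Th) : Good5 S := by
  obtain ⟨hfin, -, -, -⟩ := Cfsg.Agent.Th.Main1700.final
  exact good5_of_equiv hC h.some (good5' hC')

end Cfsg.Agent.H492.K4Th
end
end

-- part: H492/K4ThFin
section
/-!
# Odd degree characters of the Thompson group (helper492)

`good5_th` : row (A) of S4547 for `Th`.
-/

set_option autoImplicit false

namespace Cfsg.Agent.H492.K4ThFin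

open Cfsg.Agent.H601.K4

universe u

/-- **Row (A) of S4547 for `Th`.** -/
theorem good5_th {S : Type u} [Group S] (h : Cfsg.Spor.IsoTh S) : Good5 S := by
  obtain ⟨hfin, -, -, -⟩ := Cfsg.Agent.Th.Main1700.final
  have : Finite S := Finite.of_equiv _ h.some.symm.toEquiv
  exact K4Th.good5_th_of h (H989.TwoCSpor.twoC_th h) (H989.TwoCSpor.twoC_th ⟨MulEquiv.refl _⟩)

end Cfsg.Agent.H492.K4ThFin
end
end
end
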